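import Groth.Agent.H4DR.HT.Compare
import Mathlib.Algebra.Module.LocalizedModule.Basic

/-!
# Finiteness of local cohomology is local
-/

set_option autoImplicit false
set_option linter.style.haveILetI false
set_option linter.unusedVariables false

universe u

open CategoryTheory CategoryTheory.Limits Pretriangulated

attribute [local instance] HasDerivedCategory.standard

namespace Groth.Agent.H4DR.HT

variable {A : Type u} [CommRing A] [IsNoetherianRing A]

/-- With lower local cohomology finite, the part of `H^k_I(M)` killed by a power of `I` is finite. -/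
theorem finite_torsion_H (I : Ideal A) (M : Type u) [AddCommGroup M] [Module A M] [Module.Finite A M] (k : ℕ)
    (h : ∀ i : ℕ, i < k → Module.Finite A (LocCoh.H I i M)) (J : Ideal A) (hJ : I ≤ J.radical) :
    Module.Finite A (Submodule.torsionBySet A (LocCoh.H I k M) (J : Set A)) := by
  let T := PrimeSpectrum.zeroLocus (I : Set A)
  let K : Dual.D A := Dual.inD A M
  haveI := finite_torsion T ⊥ (K⟦(k : ℤ)⟧) (-(k : ℤ))
    (fun j hj => haveI := PCoh.subsingleton_HD_inD (ModuleCat.of A M) ((k : ℤ) + j) (by omega)
      (PCoh.hShift K k j (k + j) rfl).injective.subsingleton)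
    (fun j => by
      by_cases hj : (k : ℤ) + j = 0
      · haveI : Module.Finite A (Dual.HD A K 0) := Module.Finite.equiv (DComplete.e0 (ModuleCat.of A M)).symm
        exact Module.Finite.equiv ((PCoh.hShift K k j 0 hj)).symm
      · haveI := PCoh.subsingleton_HD_inD (ModuleCat.of A M) _ hj
        haveI := (PCoh.hShift K k j (k + j) rfl).injective.subsingleton
        infer_instance)
    (fun j => bot_le)
    (fun i hi => by
      refine Module.Finite.equiv_iff (hEquiv T ((shiftFunctorAdd' (Dual.D A) (k : ℤ) i (k + i) rfl).app K)) |>.1 ?_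
      rcases lt_or_ge ((k : ℤ) + i) 0 with h0 | h0
      · haveI := subsingleton_of_pos T (W := K⟦(k : ℤ) + i⟧) fun j hj =>
          haveI := PCoh.subsingleton_HD_inD (ModuleCat.of A M) ((k : ℤ) + i + j) (by omega)
          (PCoh.hShift K (k + i) j (k + i + j) rfl).injective.subsingleton
        infer_instance
      · obtain ⟨m, hm⟩ := Int.eq_ofNat_of_zero_le h0
        rw [hm]
        haveI := h m (by omega)
        exact Module.Finite.equiv (lcEquivT I M m))
    J ((PrimeSpectrum.zeroLocus_subset_zeroLocus_iff J I).2 hJ)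
  let e := lcEquivT I M k
  exact Module.Finite.of_injective
    ((e.toLinearMap.domRestrict (Submodule.torsionBySet A (LocCoh.H I k M) (J : Set A))).codRestrict
      (Submodule.torsionBySet A (H T (K⟦(k : ℤ)⟧)) (J : Set A)) fun x =>
        (Submodule.mem_torsionBySet_iff _ _).2 fun a => by
          show (a : A) • e x.1 = 0
          rw [← map_smul, (Submodule.mem_torsionBySet_iff _ _).1 x.2 a, map_zero])
    (fun x y hxy => Subtype.ext (e.injective (congrArg Subtype.val hxy :)))

/-- A torsion module with finite socles which is locally finite is finite. -/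
theorem finite_of_locally (I : Ideal A) {M : Type u} [AddCommGroup M] [Module A M]
    (ht : LocCoh.IsPowerTorsion I M)
    (hN : ∀ e : ℕ, Module.Finite A (Submodule.torsionBySet A M ((I ^ e : Ideal A) : Set A)))
    (hloc : ∀ (p : Ideal A) [p.IsPrime], Module.Finite (Localization.AtPrime p) (LocalizedModule p.primeCompl M)) :
    Module.Finite A M := by
  classical
  let N : ℕ → Submodule A M := fun e => Submodule.torsionBySet A M ((I ^ e : Ideal A) : Set A)
  have hmem : ∀ {e : ℕ} {x : M}, x ∈ N e ↔ ∀ a ∈ I ^ e, a • x = 0 := fun {e x} =>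
    ⟨fun h a ha => (Submodule.mem_torsionBySet_iff _ _).1 h ⟨a, ha⟩,
      fun h => (Submodule.mem_torsionBySet_iff _ _).2 fun a => h a a.2⟩
  have hmono : Monotone N := fun e e' he x hx => hmem.2 fun a ha => hmem.1 hx a (Ideal.pow_le_pow_right he ha)
  let 𝔞 : ℕ →o Ideal A :=
    ⟨fun e => (N e).colon (N (e + 1) : Set M), monotone_nat_of_le_succ fun e a ha => by
      refine Submodule.mem_colon.2 fun x hx => hmem.2 fun b hb => ?_
      rw [pow_succ] at hb
      refine Submodule.mul_induction_on hb (fun c hc d hd => ?_) (fun u v hu hv => by rw [add_smul, hu, hv, add_zero])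
      rw [mul_smul, ← smul_comm a d x]
      refine hmem.1 (Submodule.mem_colon.1 ha _ (hmem.2 fun f hf => ?_)) c hc
      rw [smul_smul]
      exact hmem.1 hx _ (by rw [pow_succ _ (e + 1)]; exact Ideal.mul_mem_mul hf hd)⟩
  obtain ⟨e₀, he₀⟩ := monotone_stabilizes_iff_noetherian.2 inferInstance 𝔞
  have htop : 𝔞 e₀ = ⊤ := by
    by_contra hne
    obtain ⟨m, hm, hle⟩ := Ideal.exists_le_maximal _ hne
    haveI := hm.isPrime
    obtain ⟨G, hG⟩ := (hloc m).fg_top
    have hG' : ∀ g : LocalizedModule m.primeCompl M, ∃ e : ℕ, ∃ x ∈ N e, ∃ s : m.primeCompl, g = LocalizedModule.mk x s :=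
      fun g => g.induction_on fun x s => by
        obtain ⟨e, he⟩ := ht x
        exact ⟨e, x, hmem.2 he, s, rfl⟩
    choose ef xf hxf sf hgf using hG'
    let e₁ := max e₀ (G.sup ef)
    have hloc' : ∀ x : M, ∃ s ∉ m, s • x ∈ N e₁ := fun x => by
      have hx : LocalizedModule.mk x (1 : m.primeCompl) ∈ Submodule.span (Localization.AtPrime m) (G : Set _) := by
        rw [hG]; trivial
      let S : Submodule (Localization.AtPrime m) (LocalizedModule m.primeCompl M) :=
        (N e₁).localized m.primeCompl
      have hle' : Submodule.span (Localization.AtPrime m) (G : Set _) ≤ S := Submodule.span_le.2 fun g hg => by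
        rw [hgf g]
        exact ⟨xf g, hmono ((Finset.le_sup hg).trans (le_max_right _ _)) (hxf g), sf g,
          (IsLocalizedModule.mk_eq_mk' (sf g) (xf g)).symm⟩
      obtain ⟨y, hy, s, hys⟩ := hle' hx
      rw [← IsLocalizedModule.mk_eq_mk' s y, LocalizedModule.mk_eq] at hys
      obtain ⟨u, hu⟩ := hys
      refine ⟨(u : A) * s, m.primeCompl.mul_mem u.2 s.2, ?_⟩
      rw [one_smul] at hu
      rw [mul_smul]
      have := congrArg (fun z => z) hu
      simp only [Submonoid.smul_def] at this
      rw [← this]
      exact (N e₁).smul_mem _ hy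
    choose sx hsx hsx' using hloc'
    haveI : Module.Finite A (N (e₁ + 1)) := hN (e₁ + 1)
    obtain ⟨X, hX⟩ := Module.Finite.iff_fg.1 ‹Module.Finite A (N (e₁ + 1))›
    have hs : (∏ x ∈ X, sx x) ∈ 𝔞 e₁ := by
      refine Submodule.mem_colon.2 fun x hx => ?_
      have hx' : x ∈ Submodule.span A (X : Set M) := hX ▸ hx
      induction hx' using Submodule.span_induction with
      | mem y hy =>
        rw [← Finset.prod_erase_mul X sx hy, mul_smul]
        exact (N e₁).smul_mem _ (hsx' y)
      | zero => rw [smul_zero]; exact zero_mem _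
      | add u v hu hv hu' hv' =>
        rw [smul_add]
        exact add_mem (hu' (hX ▸ hu)) (hv' (hX ▸ hv))
      | smul c u hu hu' =>
        rw [smul_comm]
        exact (N e₁).smul_mem _ (hu' (hX ▸ hu))
    rw [← he₀ e₁ (le_max_left _ _)] at hs
    exact m.primeCompl.prod_mem (fun x _ => hsx x) (hle hs)
  have hstep : ∀ e, e₀ ≤ e → N (e + 1) ≤ N e := fun e he x hx => by
    have h1 : (1 : A) ∈ 𝔞 e := by rw [← he₀ e he, htop]; trivial
    simpa using Submodule.mem_colon.1 h1 x hx
  have hall : ∀ e, N e ≤ N e₀ := fun e => by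
    induction e with
    | zero => exact hmono (Nat.zero_le _)
    | succ e ih =>
      rcases le_or_gt e₀ e with he | he
      · exact (hstep e he).trans ih
      · exact hmono he
  haveI := hN e₀
  exact Module.Finite.of_surjective (N e₀).subtype fun x => by
    obtain ⟨e, he⟩ := ht x
    exact ⟨⟨x, hall e (hmem.2 he)⟩, rfl⟩

/-- Finiteness of local cohomology is local on the ring. -/
theorem finite_H_of_locally (I : Ideal A) (M : Type u) [AddCommGroup M] [Module A M] [Module.Finite A M] (n : ℕ)
    (h : ∀ (p : Ideal A) [p.IsPrime], ∀ i : ℕ, i ≤ n →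
      Module.Finite (Localization.AtPrime p) (LocalizedModule p.primeCompl (LocCoh.H I i M))) :
    ∀ i : ℕ, i ≤ n → Module.Finite A (LocCoh.H I i M) := by
  intro i
  induction i using Nat.strong_induction_on with
  | _ i ih =>
    intro hi
    refine finite_of_locally I (fun z => H4LC.isPowerTorsion_H I i M z)
      (fun e => finite_torsion_H I M i (fun j hj => ih j hj (by omega)) (I ^ e) ?_) fun p _ => h p i hi
    exact fun a ha => ⟨e, Ideal.pow_mem_pow ha e⟩

end Groth.Agent.H4DR.HT
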