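import Groth.Agent.H4DR.HT.Compare
import Groth.Agent.H4DR.RG.Good

/-!
# Elements of `colim_J Hom(A/J, W)` as cocycles of an injective model
-/

set_option autoImplicit false
set_option linter.style.haveILetI false
set_option linter.unusedVariables false

universe u

open CategoryTheory CategoryTheory.Limits Pretriangulated

attribute [local instance] HasDerivedCategory.standard

namespace Groth.Agent.H4DR.HT

variable {A : Type u} [CommRing A]

/-- The single complex on `A/J`. -/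
noncomputable abbrev sglQ (J : Ideal A) : DRing.Cx A := Hom.sgl 0 (ModuleCat.of A (A ⧸ J))

/-- The class of `1`. -/
noncomputable def u1 (J : Ideal A) : (sglQ J).X 0 :=
  (HomologicalComplex.singleObjXSelf (ComplexShape.up ℤ) 0 (ModuleCat.of A (A ⧸ J))).inv.hom
    (Submodule.Quotient.mk (1 : A))

lemma smul_u1 (J : Ideal A) {a : A} (ha : a ∈ J) : a • u1 J = 0 := by
  rw [u1, ← map_smul, ← Submodule.Quotient.mk_smul, smul_eq_mul, mul_one,
    (Submodule.Quotient.mk_eq_zero J).2 ha, map_zero]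

lemma singleObjXSelf_u1 (J : Ideal A) :
    (HomologicalComplex.singleObjXSelf (ComplexShape.up ℤ) 0 (ModuleCat.of A (A ⧸ J))).hom.hom (u1 J) =
      Submodule.Quotient.mk (1 : A) := by
  rw [u1, ← ModuleCat.comp_apply, Iso.inv_hom_id]; rfl

variable {E : DRing.Cx A}

lemma sgl_hom_ext {J : Ideal A} {g g' : sglQ J ⟶ E} (h : (g.f 0).hom (u1 J) = (g'.f 0).hom (u1 J)) : g = g' := by
  refine HomologicalComplex.from_single_hom_ext ?_
  refine (cancel_epi (HomologicalComplex.singleObjXSelf (ComplexShape.up ℤ) 0 (ModuleCat.of A (A ⧸ J))).inv).1 ?_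
  exact ModuleCat.hom_ext (Submodule.linearMap_qext _ (LinearMap.ext_ring h))

/-- The chain map given by a cocycle killed by `J`. -/
noncomputable def gOf (J : Ideal A) (z : E.X 0) (hk : ∀ a ∈ J, a • z = 0) (hd : (E.d 0 (0 + 1)).hom z = 0) :
    sglQ J ⟶ E :=
  HomologicalComplex.mkHomFromSingle
    (ModuleCat.ofHom (Submodule.liftQ J (LinearMap.toSpanSingleton A _ z) fun a ha => LinearMap.mem_ker.2
      ((LinearMap.toSpanSingleton_apply A _ z a).trans (hk a ha))))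
    fun i (hi : 0 + 1 = i) => by
      subst hi
      refine ModuleCat.hom_ext (Submodule.linearMap_qext _ (LinearMap.ext_ring ?_))
      show (E.d 0 (0 + 1)).hom (Submodule.liftQ _ _ _ (Submodule.Quotient.mk (1 : A))) = _
      rw [Submodule.liftQ_apply, LinearMap.toSpanSingleton_apply_one]
      exact hd

lemma gOf_u1 (J : Ideal A) (z : E.X 0) (hk : ∀ a ∈ J, a • z = 0) (hd : (E.d 0 (0 + 1)).hom z = 0) :
    ((gOf J z hk hd).f 0).hom (u1 J) = z := by
  rw [gOf, HomologicalComplex.mkHomFromSingle_f, ModuleCat.comp_apply, singleObjXSelf_u1]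
  exact LinearMap.toSpanSingleton_apply_one A _ z

lemma sgl_map_u1 {J J' : Ideal A} (h : J ≤ J') :
    (((HomologicalComplex.single (ModuleCat.{u} A) (ComplexShape.up ℤ) 0).map
      (ModuleCat.ofHom (Submodule.mapQ J J' LinearMap.id h))).f 0).hom (u1 J) = u1 J' := by
  rw [HomologicalComplex.single_map_f_self, ModuleCat.comp_apply, ModuleCat.comp_apply, singleObjXSelf_u1]
  rfl

variable (T : Set (PrimeSpectrum A)) {W : Dual.D A} (e : DRing.toD E ≅ W)

/-- The element given by a cocycle. -/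
noncomputable def el (J : Ideal A) (hJ : PrimeSpectrum.zeroLocus (J : Set A) ⊆ T) (z : E.X 0)
    (hk : ∀ a ∈ J, a • z = 0) (hd : (E.d 0 (0 + 1)).hom z = 0) : H T W :=
  ι T W J hJ (DerivedCategory.Q.map (gOf J z hk hd) ≫ e.hom)

theorem el_congr {J : Ideal A} {hJ : PrimeSpectrum.zeroLocus (J : Set A) ⊆ T} {z z' : E.X 0} (h : z = z')
    (hk : ∀ a ∈ J, a • z = 0) (hd : (E.d 0 (0 + 1)).hom z = 0) (hk' : ∀ a ∈ J, a • z' = 0)
    (hd' : (E.d 0 (0 + 1)).hom z' = 0) : el T e J hJ z hk hd = el T e J hJ z' hk' hd' := by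
  subst h; rfl

theorem el_restrict {J J' : Ideal A} (hJ : PrimeSpectrum.zeroLocus (J : Set A) ⊆ T)
    (hJ' : PrimeSpectrum.zeroLocus (J' : Set A) ⊆ T) (hle : J' ≤ J) (z : E.X 0) (hk : ∀ a ∈ J, a • z = 0)
    (hd : (E.d 0 (0 + 1)).hom z = 0) :
    el T e J' hJ' z (fun a ha => hk a (hle ha)) hd = el T e J hJ z hk hd := by
  rw [el, el, ← ι_qtr T W hJ hJ' hle]
  refine congrArg _ ((congrArg (· ≫ e.hom) ?_).trans (Category.assoc _ _ _))
  show DerivedCategory.Q.map _ = DerivedCategory.Q.map ((HomologicalComplex.single (ModuleCat.{u} A)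
    (ComplexShape.up ℤ) 0).map (ModuleCat.ofHom (Submodule.mapQ J' J LinearMap.id hle))) ≫ DerivedCategory.Q.map _
  rw [← Functor.map_comp]
  refine congrArg _ (sgl_hom_ext ?_)
  rw [HomologicalComplex.comp_f, ModuleCat.comp_apply, sgl_map_u1, gOf_u1, gOf_u1]

theorem smul_el {J : Ideal A} (hJ : PrimeSpectrum.zeroLocus (J : Set A) ⊆ T) (c : A) (z : E.X 0)
    (hk : ∀ a ∈ J, a • z = 0) (hd : (E.d 0 (0 + 1)).hom z = 0) :
    c • el T e J hJ z hk hd = el T e J hJ (c • z) (fun a ha => by rw [smul_comm, hk a ha, smul_zero])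
      (by rw [map_smul, hd, smul_zero]) := by
  rw [el, el, ← map_smul, ← Linear.smul_comp]
  refine congrArg _ (congrArg (· ≫ e.hom) ((Functor.map_smul DerivedCategory.Q c (gOf J z hk hd)).symm.trans
    (congrArg _ (sgl_hom_ext ?_))))
  rw [gOf_u1]
  show c • ((gOf J z hk hd).f 0).hom (u1 J) = c • z
  rw [gOf_u1]

theorem sub_el {J : Ideal A} (hJ : PrimeSpectrum.zeroLocus (J : Set A) ⊆ T) (z z' : E.X 0)
    (hk : ∀ a ∈ J, a • z = 0) (hd : (E.d 0 (0 + 1)).hom z = 0)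
    (hk' : ∀ a ∈ J, a • z' = 0) (hd' : (E.d 0 (0 + 1)).hom z' = 0) :
    el T e J hJ z hk hd - el T e J hJ z' hk' hd' = el T e J hJ (z - z')
      (fun a ha => by rw [smul_sub, hk a ha, hk' a ha, sub_zero]) (by rw [map_sub, hd, hd', sub_zero]) := by
  rw [el, el, el, ← map_sub, ← Preadditive.sub_comp]
  refine congrArg _ (congrArg (· ≫ e.hom) (DerivedCategory.Q.map_sub.symm.trans (congrArg _ (sgl_hom_ext ?_))))
  rw [gOf_u1]
  show ((gOf J z hk hd).f 0).hom (u1 J) - ((gOf J z' hk' hd').f 0).hom (u1 J) = z - z'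
  rw [gOf_u1, gOf_u1]

theorem el_d_eq_zero {J : Ideal A} (hJ : PrimeSpectrum.zeroLocus (J : Set A) ⊆ T) (z : E.X 0)
    (hk : ∀ a ∈ J, a • z = 0) (hd : (E.d 0 (0 + 1)).hom z = 0) (K : Ideal A)
    (hK : PrimeSpectrum.zeroLocus (K : Set A) ⊆ T) (w : E.X (0 - 1)) (hw : ∀ a ∈ K, a • w = 0)
    (hdw : (E.d (0 - 1) 0).hom w = z) : el T e J hJ z hk hd = 0 := by
  have hJK := zeroLocus_inf_subset T hJ hK
  rw [← el_restrict T e hJ hJK inf_le_left z hk hd, el]
  let J' := J ⊓ K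
  let φ : ModuleCat.of A (A ⧸ J') ⟶ E.X (0 - 1) :=
    ModuleCat.ofHom (Submodule.liftQ _ (LinearMap.toSpanSingleton A _ w) fun a ha => LinearMap.mem_ker.2
      ((LinearMap.toSpanSingleton_apply A _ w a).trans (hw a ha.2)))
  let hh : ∀ i j, (ComplexShape.up ℤ).Rel j i → ((sglQ J').X i ⟶ E.X j) := fun i j hji =>
    if hi : i = 0 then
      (HomologicalComplex.singleObjXIsoOfEq (ComplexShape.up ℤ) 0 _ i hi).hom ≫ φ ≫
        (E.XIsoOfEq (show 0 - 1 = j by subst hi; have : j + 1 = 0 := hji; omega)).hom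
    else 0
  have H : Homotopy (gOf J' z (fun a ha => hk a ha.1) hd) 0 := by
    refine (Homotopy.ofEq ?_).trans (Homotopy.nullHomotopy' hh)
    refine sgl_hom_ext ?_
    rw [Homotopy.nullHomotopicMap'_f (show (ComplexShape.up ℤ).Rel (0 - 1) 0 by simp)
      (show (ComplexShape.up ℤ).Rel 0 (0 + 1) by simp), HomologicalComplex.single_obj_d, zero_comp, zero_add,
      gOf_u1]
    simp only [hh, dif_pos, HomologicalComplex.XIsoOfEq_rfl, Iso.refl_hom, Category.comp_id, Category.assoc]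
    show z = (E.d (0 - 1) 0).hom (φ.hom ((HomologicalComplex.singleObjXSelf (ComplexShape.up ℤ) 0
      (ModuleCat.of A (A ⧸ J'))).hom.hom (u1 J')))
    rw [singleObjXSelf_u1, ← hdw]
    exact congrArg _ (LinearMap.toSpanSingleton_apply_one A _ w).symm
  refine (congrArg (ι T W _ hJK) ((congrArg (· ≫ e.hom) ((DerivedCategory.Q_map_eq_of_homotopy (h := H)).trans
    (Functor.map_zero _ _ _))).trans zero_comp)).trans (map_zero _)

theorem el_eq_of_sub {J J' : Ideal A} (hJ : PrimeSpectrum.zeroLocus (J : Set A) ⊆ T)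
    (hJ' : PrimeSpectrum.zeroLocus (J' : Set A) ⊆ T) (z z' : E.X 0)
    (hk : ∀ a ∈ J, a • z = 0) (hd : (E.d 0 (0 + 1)).hom z = 0)
    (hk' : ∀ a ∈ J', a • z' = 0) (hd' : (E.d 0 (0 + 1)).hom z' = 0)
    (K : Ideal A) (hK : PrimeSpectrum.zeroLocus (K : Set A) ⊆ T) (w : E.X (0 - 1)) (hw : ∀ a ∈ K, a • w = 0)
    (hdw : (E.d (0 - 1) 0).hom w = z - z') : el T e J hJ z hk hd = el T e J' hJ' z' hk' hd' := by
  have hJJ := zeroLocus_inf_subset T hJ hJ'
  rw [← el_restrict T e hJ hJJ inf_le_left z hk hd, ← el_restrict T e hJ' hJJ inf_le_right z' hk' hd', ← sub_eq_zero,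
    sub_el]
  exact el_d_eq_zero T e _ _ _ _ K hK w hw hdw

variable [CochainComplex.IsKInjective E]

theorem exists_el (x : H T W) : ∃ (J : Ideal A) (hJ : PrimeSpectrum.zeroLocus (J : Set A) ⊆ T) (z : E.X 0)
    (hk : ∀ a ∈ J, a • z = 0) (hd : (E.d 0 (0 + 1)).hom z = 0), el T e J hJ z hk hd = x := by
  obtain ⟨J, hJ, x, rfl⟩ := exists_rep T x
  obtain ⟨g, hg⟩ := DComplete.exists_Q_map_eq (P := sglQ J) ((show DRing.toD (sglQ J) ⟶ W from x) ≫ e.inv)
  have hk : ∀ a ∈ J, a • (g.f 0).hom (u1 J) = 0 := fun a ha => by rw [← map_smul, smul_u1 J ha, map_zero]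
  have hd : (E.d 0 (0 + 1)).hom ((g.f 0).hom (u1 J)) = 0 := by
    show (g.f 0 ≫ E.d 0 (0 + 1)).hom (u1 J) = 0
    rw [g.comm, HomologicalComplex.single_obj_d, zero_comp]; rfl
  refine ⟨J, hJ, _, hk, hd, ?_⟩
  show ι T W J hJ _ = ι T W J hJ x
  refine congrArg _ ?_
  rw [show gOf J _ hk hd = g from sgl_hom_ext (gOf_u1 J _ hk hd)]
  exact (congrArg (· ≫ e.hom) hg).trans ((Category.assoc _ _ _).trans
    ((congrArg (_ ≫ ·) e.inv_hom_id).trans (Category.comp_id _)))

theorem exists_of_el_eq_zero {J : Ideal A} {hJ : PrimeSpectrum.zeroLocus (J : Set A) ⊆ T} {z : E.X 0}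
    {hk : ∀ a ∈ J, a • z = 0} {hd : (E.d 0 (0 + 1)).hom z = 0} (h : el T e J hJ z hk hd = 0) :
    ∃ (K : Ideal A) (w : E.X (0 - 1)), PrimeSpectrum.zeroLocus (K : Set A) ⊆ T ∧ (∀ a ∈ K, a • w = 0) ∧
      (E.d (0 - 1) 0).hom w = z := by
  obtain ⟨J', hle, hJ', h0⟩ := ι_eq_zero T h
  have h1 : DerivedCategory.Q.map (gOf J' z (fun a ha => hk a (hle ha)) hd) = 0 := by
    refine (cancel_mono e.hom).1 (Eq.trans ?_ (h0.trans zero_comp.symm))
    refine (congrArg (· ≫ e.hom) ?_).trans (Category.assoc _ _ _)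
    show DerivedCategory.Q.map _ = DerivedCategory.Q.map ((HomologicalComplex.single (ModuleCat.{u} A)
      (ComplexShape.up ℤ) 0).map (ModuleCat.ofHom (Submodule.mapQ J' J LinearMap.id hle))) ≫ DerivedCategory.Q.map _
    rw [← Functor.map_comp]
    refine congrArg _ (sgl_hom_ext ?_)
    rw [HomologicalComplex.comp_f, ModuleCat.comp_apply, sgl_map_u1, gOf_u1, gOf_u1]
  obtain ⟨Hm⟩ := RHom.nonempty_homotopy_of_Q_map _ h1
  refine ⟨J', (Hm.hom 0 (0 - 1)).hom (u1 J'), hJ',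
    fun a ha => by rw [← map_smul, smul_u1 J' ha, map_zero], ?_⟩
  have hc := Hm.comm 0
  rw [dNext_eq _ (show (ComplexShape.up ℤ).Rel 0 (0 + 1) by simp),
    prevD_eq _ (show (ComplexShape.up ℤ).Rel (0 - 1) 0 by simp), HomologicalComplex.single_obj_d,
    zero_comp, zero_add, HomologicalComplex.zero_f, add_zero] at hc
  exact (congr($(hc.symm).hom (u1 J'))).trans (gOf_u1 J' z _ hd)

end Groth.Agent.H4DR.HT
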