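import Groth.Agent.H4DR.HT.Faltings
import Groth.Agent.H4LC.Depth

/-!
# The module forms
-/

set_option autoImplicit false
set_option linter.style.haveILetI false
set_option linter.unusedVariables false

universe u v

open CategoryTheory CategoryTheory.Limits Pretriangulated TensorProduct
open Groth.Agent.H4DR.Ext (Ex)
open Groth.Agent.H4DR.FlatBC (F FD toFₗ)
open Groth.Agent.H4DR.Dualizing (Loc loc deg)

attribute [local instance] HasDerivedCategory.standard

namespace Groth.Agent.H4DR.HT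

variable {A : Type u} [CommRing A] (M : Type u) [AddCommGroup M] [Module A M]

theorem subsingleton_HD_inD_of_neg (i : ℤ) (hi : i < 0) : Subsingleton (Dual.HD A (Dual.inD A M) i) :=
  PCoh.subsingleton_HD_inD (ModuleCat.of A M) i hi.ne

theorem kill_module_iff (T : Set (PrimeSpectrum A)) (x : A) (s : ℕ) :
    (∀ i : ℕ, i ≤ s → ∀ y : Dual2.HT T i M, x • y = 0) ↔
      ∀ i : ℤ, i ≤ (s : ℤ) → ∀ y : H T ((Dual.inD A M)⟦i⟧), x • y = 0 := by
  refine ⟨fun h i hi y => ?_, fun h i hi y => ?_⟩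
  · rcases Int.lt_or_le i 0 with hneg | hnn
    · exact @Subsingleton.elim _ (subsingleton_of_pos T fun j hj =>
        FlatBC.subsingleton_HD_shift (c := 0) (subsingleton_HD_inD_of_neg M) i j (by omega)) _ _
    · obtain ⟨n, rfl⟩ := Int.eq_ofNat_of_zero_le hnn
      refine (htEquiv T M n).injective ?_
      rw [map_smul, map_zero]
      exact h n (by omega) _
  · refine (htEquiv T M i).symm.injective ?_
    rw [map_smul, map_zero]
    exact h i (by omega) _

/-- `(M)_p` in the derived category. -/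
noncomputable def locModuleIso (p : PrimeSpectrum A) :
    loc (Dual.inD A M) p ≅ Dual.inD (Loc p) (LocalizedModule p.asIdeal.primeCompl M) :=
  haveI := IsLocalization.flat (Loc p) p.asIdeal.primeCompl
  ((F A (Loc p)).mapDerivedCategorySingleFunctor 0).app (ModuleCat.of A M) ≪≫
    (DerivedCategory.singleFunctor (ModuleCat.{u} (Loc p)) 0).mapIso
      (((LocalizedModule.equivTensorProduct p.asIdeal.primeCompl M).trans
        (toFₗ (Loc p) (ModuleCat.of A M))).symm.toModuleIso)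

variable [IsNoetherianRing A] [Module.Finite A M]

theorem finite_HD_inD (j : ℤ) : Module.Finite A (Dual.HD A (Dual.inD A M) j) := by
  rcases eq_or_ne j 0 with rfl | hj
  · exact Module.Finite.equiv (DComplete.e0 (ModuleCat.of A M)).symm
  · haveI := PCoh.subsingleton_HD_inD (ModuleCat.of A M) j hj
    infer_instance

theorem forall_subsingleton_iff_depth (p : PrimeSpectrum A) (t : ℕ) (s : ℕ) :
    (∀ i : ℤ, i ≤ (s : ℤ) - t → Subsingleton (LD.H (IsLocalRing.maximalIdeal (Loc p))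
        ((loc (Dual.inD A M) p)⟦i⟧))) ↔
      (s : ℕ∞) < LocCoh.depth (Loc p) (LocalizedModule p.asIdeal.primeCompl M) + (t : ℕ∞) := by
  haveI : IsNoetherianRing (Loc p) := IsLocalization.isNoetherianRing p.asIdeal.primeCompl (Loc p) ‹_›
  let L := LocalizedModule p.asIdeal.primeCompl M
  have key : ∀ i : ℤ, Subsingleton (LD.H (IsLocalRing.maximalIdeal (Loc p)) ((loc (Dual.inD A M) p)⟦i⟧)) ↔
      Subsingleton (LD.H (IsLocalRing.maximalIdeal (Loc p)) ((Dual.inD (Loc p) L)⟦i⟧)) := fun i =>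
    (LD.hEquiv _ ((shiftFunctor (Dual.D (Loc p)) i).mapIso (locModuleIso M p))).toEquiv.subsingleton_congr
  simp only [key]
  have hneg : ∀ i : ℤ, i < 0 →
      Subsingleton (LD.H (IsLocalRing.maximalIdeal (Loc p)) ((Dual.inD (Loc p) L)⟦i⟧)) := fun i hi =>
    LD.subsingleton_H _ fun n => Ext.subsingleton_ex_low (a := 0) (subsingleton_HD_inD_of_neg L) _ i hi
  have hnat : ∀ i : ℕ, Subsingleton (LD.H (IsLocalRing.maximalIdeal (Loc p)) ((Dual.inD (Loc p) L)⟦(i : ℤ)⟧)) ↔
      Subsingleton (LocCoh.H (IsLocalRing.maximalIdeal (Loc p)) i L) := fun i =>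
    (LD.lcEquiv (IsLocalRing.maximalIdeal (Loc p)) L i).symm.toEquiv.subsingleton_congr
  rcases Nat.lt_or_ge s t with hst | hst
  · refine iff_of_true (fun i hi => hneg i (by omega)) ((Nat.cast_lt.2 hst).trans_le le_add_self)
  · have hd : (s : ℕ∞) < LocCoh.depth (Loc p) L + (t : ℕ∞) ↔ ((s - t + 1 : ℕ) : ℕ∞) ≤ LocCoh.depth (Loc p) L := by
      induction LocCoh.depth (Loc p) L using ENat.recTopCoe with
      | top => simp
      | coe d => rw [← Nat.cast_add, Nat.cast_lt, Nat.cast_le]; omega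
    rw [hd, LocCoh.depth, H4LC.le_idealDepth_iff_H]
    refine ⟨fun h i hi => (hnat i).1 (h i (by omega)), fun h i hi => ?_⟩
    rcases Int.lt_or_le i 0 with hn | hn
    · exact hneg i hn
    · obtain ⟨n, rfl⟩ := Int.eq_ofNat_of_zero_le hn
      exact (hnat n).2 (h n (by omega))

variable {ω : Dual.D A} (hω : Dual.IsDualizing A ω)
include hω

theorem not_isBad_iff_depth (T : Set (PrimeSpectrum A)) (s : ℕ) (p q : PrimeSpectrum A) :
    ¬ IsBad hω T (s : ℤ) (Dual.inD A M) p q ↔ (p ≤ q → q ∈ T → (s : WithBot ℕ∞) <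
      ((LocCoh.depth (Loc p) (LocalizedModule p.asIdeal.primeCompl M) : ℕ∞) : WithBot ℕ∞) +
        Order.krullDim (Set.Icc p q)) := by
  have key : ∀ hpq : p ≤ q,
      (∀ i : ℤ, i ≤ (s : ℤ) - (deg hω q - deg hω p) → Subsingleton (LD.H (IsLocalRing.maximalIdeal (Loc p))
        ((loc (Dual.inD A M) p)⟦i⟧))) ↔ (s : WithBot ℕ∞) <
      ((LocCoh.depth (Loc p) (LocalizedModule p.asIdeal.primeCompl M) : ℕ∞) : WithBot ℕ∞) +
        Order.krullDim (Set.Icc p q) := fun hpq => by
    obtain ⟨d, -, hd, -⟩ := Dualizing.exists_dim hω hpq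
    rw [krullDim_Icc hω hpq, ← WithBot.coe_add, ← WithBot.coe_natCast, WithBot.coe_lt_coe,
      ← forall_subsingleton_iff_depth M p (deg hω q - deg hω p).toNat s,
      show ((deg hω q - deg hω p).toNat : ℤ) = deg hω q - deg hω p by omega]
  constructor
  · intro h hpq hq
    exact (key hpq).1 fun i hi => by_contra fun hns => h ⟨hpq, hq, i, hi, hns⟩
  · rintro h ⟨hpq, hq, i, hi, hns⟩
    exact hns ((key hpq).2 (h hpq hq) i hi)

/-- The criterion for modules. -/
theorem exists_kill_module_iff {T T' : Set (PrimeSpectrum A)} (hTs : StableUnderSpecialization T)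
    (hT' : StableUnderSpecialization T') (s : ℕ) :
    (∃ J : Ideal A, PrimeSpectrum.zeroLocus (J : Set A) ⊆ T' ∧
        ∀ i : ℕ, i ≤ s → ∀ a ∈ J, ∀ x : Dual2.HT T i M, a • x = 0) ↔
      ∀ p q : PrimeSpectrum A, p ∉ T' → q ∈ T → p ≤ q → (s : WithBot ℕ∞) <
        ((LocCoh.depth (Loc p) (LocalizedModule p.asIdeal.primeCompl M) : ℕ∞) : WithBot ℕ∞) +
          Order.krullDim (Set.Icc p q) := by
  have h := exists_kill_iff hω hTs hT' (s : ℤ) (K := Dual.inD A M) (a := 0) (subsingleton_HD_inD_of_neg M)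
    (finite_HD_inD M)
  simp only [not_isBad_iff_depth M hω] at h
  refine Iff.trans ⟨?_, ?_⟩ (h.trans ⟨fun h p q hp hq hpq => h p q hp hpq hq, fun h p q hp hpq hq => h p q hp hq hpq⟩)
  · rintro ⟨J, hJ, hk⟩
    exact ⟨J, hJ, fun i hi x hx => (kill_module_iff M T x s).1 (fun j hj => hk j hj x hx) i hi⟩
  · rintro ⟨J, hJ, hk⟩
    exact ⟨J, hJ, fun i hi x hx => (kill_module_iff M T x s).2 (fun j hj => hk j hj x hx) i hi⟩

end Groth.Agent.H4DR.HT
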