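import Groth.Agent.H4DR.HT.Finite

/-!
# Comparison with local cohomology of modules
-/

set_option autoImplicit false
set_option linter.style.haveILetI false
set_option linter.unusedVariables false

universe u

open CategoryTheory CategoryTheory.Limits Pretriangulated CategoryTheory.Abelian
open Groth.Agent.H4DR.Ext (inM)

attribute [local instance] HasDerivedCategory.standard

namespace Groth.Agent.H4DR.HT

variable {A : Type u} [CommRing A] (T : Set (PrimeSpectrum A))

section Module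

variable (M : Type u) [AddCommGroup M] [Module A M] (i : ℕ)

/-- The diagram defining `H^i_T`. -/
noncomputable abbrev diag : (Dual2.IdealsIn T)ᵒᵖ ⥤ ModuleCat.{u} A ⥤ ModuleCat.{u} A :=
  (localCohomology.ringModIdeals (Dual2.idealsInDiagram T)).op ⋙ _root_.Ext A (ModuleCat.{u} A) i

/-- The colimit maps. -/
noncomputable def ιM (J : Ideal A) (h : PrimeSpectrum.zeroLocus (J : Set A) ⊆ T) :
    Abelian.Ext (ModuleCat.of A (A ⧸ J)) (ModuleCat.of A M) i →ₗ[A] Dual2.HT T i M :=
  ((colimit.ι (diag T i) (Opposite.op (mk T J h))).app (ModuleCat.of A M)).hom ∘ₗ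
    (H4LC.extEquiv (ModuleCat.of A (A ⧸ J)) (ModuleCat.of A M) i).symm.toLinearMap

theorem ιM_extEquiv (J : Ideal A) (h : PrimeSpectrum.zeroLocus (J : Set A) ⊆ T)
    (y : ((_root_.Ext A (ModuleCat.{u} A) i).obj (Opposite.op (ModuleCat.of A (A ⧸ J)))).obj (ModuleCat.of A M)) :
    ιM T M i J h (H4LC.extEquiv _ _ i y) =
      ((colimit.ι (diag T i) (Opposite.op (mk T J h))).app (ModuleCat.of A M)).hom y :=
  congrArg _ ((H4LC.extEquiv (ModuleCat.of A (A ⧸ J)) (ModuleCat.of A M) i).symm_apply_apply y)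

/-- The transition map. -/
noncomputable abbrev tr {J J' : Ideal A} (h : J ≤ J') : ModuleCat.of A (A ⧸ J) ⟶ ModuleCat.of A (A ⧸ J') :=
  ModuleCat.ofHom (Submodule.mapQ J J' LinearMap.id h)

theorem ιM_tr {J J' : Ideal A} (h : PrimeSpectrum.zeroLocus (J : Set A) ⊆ T)
    (h' : PrimeSpectrum.zeroLocus (J' : Set A) ⊆ T) (hle : J' ≤ J)
    (x : Abelian.Ext (ModuleCat.of A (A ⧸ J)) (ModuleCat.of A M) i) :
    ιM T M i J' h' ((Abelian.Ext.mk₀ (tr hle)).comp x (zero_add i)) = ιM T M i J h x := by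
  obtain ⟨y, rfl⟩ := (H4LC.extEquiv (ModuleCat.of A (A ⧸ J)) (ModuleCat.of A M) i).surjective x
  rw [← H4LC.extEquiv_naturality_left, ιM_extEquiv, ιM_extEquiv]
  exact congrArg (fun a : (diag T i).obj (Opposite.op (mk T J h)) ⟶ colimit (diag T i) =>
      (NatTrans.app a (ModuleCat.of A M)).hom y)
    (colimit.w (diag T i) (hom T (j := mk T J' h') (k := mk T J h) hle).op)

instance preservesFiltered_forget : PreservesFilteredColimitsOfSize.{u, u} (forget (ModuleCat.{u} A)) :=
  inferInstance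

/-- The evaluated colimit cocone is a colimit. -/
noncomputable def isColimitEval : IsColimit (((evaluation (ModuleCat.{u} A) (ModuleCat.{u} A)).obj
    (ModuleCat.of A M)).mapCocone (colimit.cocone (diag T i))) :=
  isColimitOfPreserves _ (colimit.isColimit _)

theorem exists_repM (z : Dual2.HT T i M) :
    ∃ (J : Ideal A) (h : PrimeSpectrum.zeroLocus (J : Set A) ⊆ T) (x : _), ιM T M i J h x = z := by
  obtain ⟨j, y, hy⟩ := Concrete.isColimit_exists_rep _ (isColimitEval T M i) z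
  exact ⟨carrier T j.unop, carrier_subset T j.unop, H4LC.extEquiv _ _ i y, (ιM_extEquiv T M i _ _ y).trans hy⟩

theorem ιM_eq_zero {J : Ideal A} {h : PrimeSpectrum.zeroLocus (J : Set A) ⊆ T}
    {x : Abelian.Ext (ModuleCat.of A (A ⧸ J)) (ModuleCat.of A M) i} (hx : ιM T M i J h x = 0) :
    ∃ (J' : Ideal A) (hle : J' ≤ J), PrimeSpectrum.zeroLocus (J' : Set A) ⊆ T ∧
      (Abelian.Ext.mk₀ (tr hle)).comp x (zero_add i) = 0 := by
  obtain ⟨y, rfl⟩ := (H4LC.extEquiv (ModuleCat.of A (A ⧸ J)) (ModuleCat.of A M) i).surjective x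
  rw [ιM_extEquiv] at hx
  obtain ⟨k, f, g, hfg⟩ := (Concrete.isColimit_rep_eq_iff_exists _ (isColimitEval T M i) (i := Opposite.op (mk T J h))
    (j := Opposite.op (mk T J h)) y 0).1 (hx.trans (map_zero _).symm)
  have hle : carrier T k.unop ≤ J := leOfHom ((Dual2.idealsInDiagram T).map f.unop)
  refine ⟨carrier T k.unop, hle, carrier_subset T k.unop, ?_⟩
  rw [← H4LC.extEquiv_naturality_left]
  exact (congrArg (H4LC.extEquiv _ _ i) (hfg.trans (map_zero _))).trans (map_zero _)

/-- `Ext` as morphisms. -/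
noncomputable def extHom (J : Ideal A) :
    Abelian.Ext (ModuleCat.of A (A ⧸ J)) (ModuleCat.of A M) i ≃ₗ[A] (Q J ⟶ (Dual.inD A M)⟦(i : ℤ)⟧) :=
  CategoryTheory.Abelian.Ext.homLinearEquiv (R := A)

theorem extHom_tr {J J' : Ideal A} (h : J ≤ J') (x : Abelian.Ext (ModuleCat.of A (A ⧸ J')) (ModuleCat.of A M) i) :
    extHom M i J ((Abelian.Ext.mk₀ (tr h)).comp x (zero_add i)) = qtr h ≫ extHom M i J' x := by
  show ((Abelian.Ext.mk₀ (tr h)).comp x (zero_add i)).hom = _
  rw [Abelian.Ext.comp_hom, Abelian.Ext.mk₀_hom, ShiftedHom.mk₀_comp]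
  rfl

/-- The cocone. -/
noncomputable def cmpCocone : Cocone (sys T ((Dual.inD A M)⟦(i : ℤ)⟧)) where
  pt := ModuleCat.of A (ULift.{u + 1} (Dual2.HT T i M))
  ι :=
    { app := fun j => ModuleCat.ofHom (ULift.moduleEquiv.symm.toLinearMap ∘ₗ
        (ιM T M i (carrier T j.unop) (carrier_subset T j.unop)) ∘ₗ (extHom M i (carrier T j.unop)).symm.toLinearMap)
      naturality := fun j k g => ModuleCat.hom_ext (LinearMap.ext fun x => congrArg ULift.up (by
        have hle : carrier T k.unop ≤ carrier T j.unop := leOfHom ((Dual2.idealsInDiagram T).map g.unop)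
        show ιM T M i _ (carrier_subset T k.unop) ((extHom M i _).symm (qtr hle ≫ x)) =
          ιM T M i _ (carrier_subset T j.unop) ((extHom M i _).symm x)
        rw [← ιM_tr T M i (carrier_subset T j.unop) (carrier_subset T k.unop) hle]
        refine congrArg _ ((extHom M i _).injective ?_)
        rw [LinearEquiv.apply_symm_apply, extHom_tr]
        exact congrArg (_ ≫ ·) ((extHom M i _).apply_symm_apply x).symm)) }

/-- `colim Hom(A/J, M[i]) → H^i_T(M)`. -/
noncomputable def cmp : H T ((Dual.inD A M)⟦(i : ℤ)⟧) →ₗ[A] Dual2.HT T i M :=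
  ULift.moduleEquiv.toLinearMap ∘ₗ (colimit.desc _ (cmpCocone T M i)).hom

theorem cmp_ι (J : Ideal A) (h : PrimeSpectrum.zeroLocus (J : Set A) ⊆ T) (x : Q J ⟶ (Dual.inD A M)⟦(i : ℤ)⟧) :
    cmp T M i (ι T _ J h x) = ιM T M i J h ((extHom M i J).symm x) :=
  congrArg ULift.down (congr($(colimit.ι_desc (cmpCocone T M i) (Opposite.op (mk T J h))).hom x))

theorem bijective_cmp : Function.Bijective (cmp T M i) := by
  refine ⟨(injective_iff_map_eq_zero _).2 fun z hz => ?_, fun z => ?_⟩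
  · obtain ⟨J, h, x, rfl⟩ := exists_rep T z
    rw [cmp_ι] at hz
    obtain ⟨J', hle, hJ', h0⟩ := ιM_eq_zero T M i hz
    have := congrArg (extHom M i J') h0
    rw [extHom_tr, LinearEquiv.apply_symm_apply, map_zero] at this
    rw [← ι_qtr T _ h hJ' hle x, this, map_zero]
  · obtain ⟨J, h, x, rfl⟩ := exists_repM T M i z
    exact ⟨ι T _ J h (extHom M i J x), by rw [cmp_ι, LinearEquiv.symm_apply_apply]⟩

/-- `H^i_T(M) ≅ colim Hom(A/J, M[i])`. -/
noncomputable def htEquiv : H T ((Dual.inD A M)⟦(i : ℤ)⟧) ≃ₗ[A] Dual2.HT T i M :=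
  LinearEquiv.ofBijective _ (bijective_cmp T M i)

end Module

section Cofinal

variable [IsNoetherianRing A] (I : Ideal A)

theorem exists_pow_le {J : Ideal A} (h : PrimeSpectrum.zeroLocus (J : Set A) ⊆ PrimeSpectrum.zeroLocus (I : Set A)) :
    ∃ n : ℕ, I ^ n ≤ J := by
  have hr : I ≤ J.radical := ((PrimeSpectrum.zeroLocus_subset_zeroLocus_iff J I).1 h)
  obtain ⟨n, hn⟩ := Ideal.exists_radical_pow_le_of_fg J (IsNoetherian.noetherian _)
  exact ⟨n, (Ideal.pow_right_mono hr n).trans hn⟩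

omit [IsNoetherianRing A] in
theorem zeroLocus_pow (n : ℕ) :
    PrimeSpectrum.zeroLocus ((I ^ n : Ideal A) : Set A) ⊆ PrimeSpectrum.zeroLocus (I : Set A) :=
  zeroLocus_pow_subset _ (subset_refl _) n

/-- The cocone. -/
noncomputable def powCocone (W : Dual.D A) : Cocone (RG.homSys I W) where
  pt := H (PrimeSpectrum.zeroLocus (I : Set A)) W
  ι :=
    { app := fun j => ModuleCat.ofHom (ι (PrimeSpectrum.zeroLocus (I : Set A)) W (I ^ j.unop.unop)
        (zeroLocus_pow I j.unop.unop))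
      naturality := fun j k g => ModuleCat.hom_ext (LinearMap.ext fun x =>
        ι_qtr _ W (zeroLocus_pow I j.unop.unop) (zeroLocus_pow I k.unop.unop)
          (Ideal.pow_le_pow_right (leOfHom g.unop.unop)) x) }

theorem bijective_powDesc (W : Dual.D A) : Function.Bijective (colimit.desc _ (powCocone I W)).hom := by
  have key : ∀ (n : ℕ) (x : LD.Q I n ⟶ W), (colimit.desc _ (powCocone I W)).hom (LD.ι I W n x) =
      ι (PrimeSpectrum.zeroLocus (I : Set A)) W (I ^ n) (zeroLocus_pow I n) x := fun n x =>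
    congr($(colimit.ι_desc (powCocone I W) (Opposite.op (Opposite.op n))).hom x)
  refine ⟨(injective_iff_map_eq_zero _).2 fun z hz => ?_, fun z => ?_⟩
  · obtain ⟨n, x, rfl⟩ := LD.exists_rep I z
    rw [key] at hz
    obtain ⟨J', hle, hJ', h0⟩ := ι_eq_zero _ hz
    obtain ⟨m, hm⟩ := exists_pow_le I hJ'
    have hmn : I ^ max m n ≤ J' := (Ideal.pow_le_pow_right (le_max_left m n)).trans hm
    rw [← LD.ι_qtr I W (le_max_right m n) x]
    have : LD.qtr I (le_max_right m n) ≫ x = qtr hmn ≫ qtr hle ≫ x := by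
      rw [← Category.assoc]
      refine congrArg (· ≫ x) ?_
      show inM _ = inM _ ≫ inM _
      rw [inM, ← Functor.map_comp]
      exact congrArg _ (ModuleCat.hom_ext (Submodule.linearMap_qext _ (LinearMap.ext_ring rfl)))
    rw [this, h0, comp_zero, map_zero]
  · obtain ⟨J, hJ, x, rfl⟩ := exists_rep _ z
    obtain ⟨n, hn⟩ := exists_pow_le I hJ
    exact ⟨LD.ι I W n (qtr hn ≫ x), (key _ _).trans (ι_qtr _ W hJ (zeroLocus_pow I n) hn x)⟩

/-- Powers of `I` are cofinal among the ideals supported in `V(I)`. -/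
noncomputable def powEquiv (W : Dual.D A) : LD.H I W ≃ₗ[A] H (PrimeSpectrum.zeroLocus (I : Set A)) W :=
  LinearEquiv.ofBijective _ (bijective_powDesc I W)

/-- `H^i_I(M) ≅ colim Hom(A/J, M[i])`. -/
noncomputable def lcEquivT (M : Type u) [AddCommGroup M] [Module A M] (i : ℕ) :
    LocCoh.H I i M ≃ₗ[A] H (PrimeSpectrum.zeroLocus (I : Set A)) ((Dual.inD A M)⟦(i : ℤ)⟧) :=
  (LD.lcEquiv I M i).trans (powEquiv I _)

end Cofinal

/-- The finiteness criterion for a module. -/
theorem finite_iff_kill_module [IsNoetherianRing A] (M : Type u) [AddCommGroup M] [Module A M] [Module.Finite A M]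
    (n : ℕ) :
    (∀ i : ℕ, i ≤ n → Module.Finite A (H T ((Dual.inD A M)⟦(i : ℤ)⟧))) ↔
      ∃ J : Ideal A, PrimeSpectrum.zeroLocus (J : Set A) ⊆ T ∧
        ∀ i : ℕ, i ≤ n → ∀ a ∈ J, ∀ y : H T ((Dual.inD A M)⟦(i : ℤ)⟧), a • y = 0 := by
  have hlow : ∀ j : ℤ, j < 0 → Subsingleton (Dual.HD A (Dual.inD A M) j) := fun j hj =>
    PCoh.subsingleton_HD_inD (ModuleCat.of A M) j (by omega)
  have hfin : ∀ j : ℤ, Module.Finite A (Dual.HD A (Dual.inD A M) j) := fun j => by
    by_cases hj : j = 0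
    · subst hj; exact Module.Finite.equiv (DComplete.e0 (ModuleCat.of A M)).symm
    · haveI := PCoh.subsingleton_HD_inD (ModuleCat.of A M) j hj
      infer_instance
  have hneg : ∀ i : ℤ, i < 0 → Subsingleton (H T ((Dual.inD A M)⟦i⟧)) := fun i hi =>
    subsingleton_of_pos T fun j hj =>
      haveI := hlow (i + j) (by omega)
      (PCoh.hShift (Dual.inD A M) i j (i + j) rfl).injective.subsingleton
  refine Iff.trans ⟨fun h i hi => ?_, fun h i hi => h i (by omega)⟩ (Iff.trans (finite_iff_kill T hlow hfin n) ?_)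
  · rcases lt_or_ge i 0 with hi0 | hi0
    · haveI := hneg i hi0; infer_instance
    · obtain ⟨m, rfl⟩ := Int.eq_ofNat_of_zero_le hi0
      exact h m (by omega)
  · refine exists_congr fun J => and_congr_right fun _ => ⟨fun h i hi => h i (by omega), fun h i hi a ha y => ?_⟩
    rcases lt_or_ge i 0 with hi0 | hi0
    · exact @Subsingleton.elim _ (hneg i hi0) _ _
    · obtain ⟨m, rfl⟩ := Int.eq_ofNat_of_zero_le hi0
      exact h m (by omega) a ha y

end Groth.Agent.H4DR.HT
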