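import Groth.Agent.H4DR.HT.Model
import Mathlib.RingTheory.Ideal.MinimalPrime.Basic
import Mathlib.RingTheory.KrullDimension.Basic

/-!
# Annihilation of `colim_J Hom(A/J, W)` and the primes
-/

set_option autoImplicit false
set_option linter.style.haveILetI false
set_option linter.unusedVariables false

universe u

open CategoryTheory CategoryTheory.Limits Pretriangulated

attribute [local instance] HasDerivedCategory.standard

namespace Groth.Agent.H4DR.HT

variable {A : Type u} [CommRing A]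

/-- The cocone. -/
noncomputable def resCocone {T₁ T₂ : Set (PrimeSpectrum A)} (h : T₁ ⊆ T₂) (W : Dual.D A) : Cocone (sys T₁ W) where
  pt := H T₂ W
  ι :=
    { app := fun j => ModuleCat.ofHom (ι T₂ W (carrier T₁ j.unop) ((carrier_subset T₁ j.unop).trans h))
      naturality := fun j k g => ModuleCat.hom_ext (LinearMap.ext fun x =>
        ι_qtr T₂ W ((carrier_subset T₁ j.unop).trans h) ((carrier_subset T₁ k.unop).trans h)
          (leOfHom ((Dual2.idealsInDiagram T₁).map g.unop)) x) }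

/-- The map of a larger subset. -/
noncomputable def res {T₁ T₂ : Set (PrimeSpectrum A)} (h : T₁ ⊆ T₂) (W : Dual.D A) : H T₁ W →ₗ[A] H T₂ W :=
  (colimit.desc _ (resCocone h W)).hom

theorem res_ι {T₁ T₂ : Set (PrimeSpectrum A)} (h : T₁ ⊆ T₂) {W : Dual.D A} (J : Ideal A)
    (hJ : PrimeSpectrum.zeroLocus (J : Set A) ⊆ T₁) (x : Q J ⟶ W) :
    res h W (ι T₁ W J hJ x) = ι T₂ W J (hJ.trans h) x :=
  congr($(colimit.ι_desc (resCocone h W) (Opposite.op (mk T₁ J hJ))).hom x)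

theorem res_el {T₁ T₂ : Set (PrimeSpectrum A)} (h : T₁ ⊆ T₂) {E : DRing.Cx A} {W : Dual.D A}
    (e : DRing.toD E ≅ W) (J : Ideal A) (hJ : PrimeSpectrum.zeroLocus (J : Set A) ⊆ T₁) (z : E.X 0)
    (hk : ∀ a ∈ J, a • z = 0) (hd : (E.d 0 (0 + 1)).hom z = 0) :
    res h W (el T₁ e J hJ z hk hd) = el T₂ e J (hJ.trans h) z hk hd :=
  res_ι h J hJ _

/-- The differential of `E⟦-1⟧`. -/
theorem shift_neg_one_d_apply (E : DRing.Cx A) (i j : ℤ) (x : E.X (i + -1)) :
    ((E⟦(-1 : ℤ)⟧).d i j).hom x = -((E.d (i + -1) (j + -1)).hom x) := by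
  rw [CochainComplex.shiftFunctor_obj_d', Int.negOnePow_neg, Int.negOnePow_one, Units.neg_smul, one_smul]
  rfl

variable [IsNoetherianRing A]

omit [IsNoetherianRing A] in
/-- A power of `s` and a power of an ideal kill an element. -/
lemma kill_sup {M : Type u} [AddCommGroup M] [Module A M] {s : A} {K : Ideal A} {n m : ℕ} {x : M}
    (hn : s ^ n • x = 0) (hm : ∀ a ∈ K ^ m, a • x = 0) :
    ∀ a ∈ Ideal.span {s ^ n} ⊔ K ^ m, a • x = 0 := fun a ha => by
  obtain ⟨b, hb, c, hc, rfl⟩ := Submodule.mem_sup.1 ha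
  obtain ⟨r, rfl⟩ := Ideal.mem_span_singleton'.1 hb
  rw [add_smul, mul_smul, hn, smul_zero, hm c hc, add_zero]

omit [IsNoetherianRing A] in
lemma zeroLocus_sup_span_subset {T : Set (PrimeSpectrum A)} {K : Ideal A}
    (hK : PrimeSpectrum.zeroLocus (K : Set A) ⊆ T) (s : A) (n m : ℕ) :
    PrimeSpectrum.zeroLocus ((Ideal.span {s ^ n} ⊔ K ^ m : Ideal A) : Set A) ⊆
      T ∩ PrimeSpectrum.zeroLocus {s} := by
  intro q hq
  refine ⟨zeroLocus_pow_subset T hK m (fun a ha => hq (Submodule.mem_sup_right ha)), Set.singleton_subset_iff.2 ?_⟩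
  exact q.2.mem_of_pow_mem n (hq (Submodule.mem_sup_left (Ideal.mem_span_singleton_self _)))

/-- Elements killed by `s` come from the part where `s` vanishes. -/
theorem exists_res_of_smul_eq_zero {T : Set (PrimeSpectrum A)} {W : Dual.D A} (s : A) (x : H T W)
    (hx : s • x = 0) : ∃ y : H (T ∩ PrimeSpectrum.zeroLocus {s}) W, res Set.inter_subset_left W y = x := by
  obtain ⟨E, hE, hinj, ⟨e⟩⟩ := RG.exists_model W
  obtain ⟨J, hJ, z, hk, hd, rfl⟩ := exists_el T e x
  rw [smul_el] at hx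
  obtain ⟨K, w, hK, hw, hdw⟩ := exists_of_el_eq_zero T e hx
  haveI := H4LC.injective_torsionSub K (E.X (0 - 1)) (hinj _)
  obtain ⟨y, k, hy⟩ := H4LC.exists_sub_smul_mem_torsionSub s
    (⟨w, 1, fun a ha => hw a ((pow_one K).le ha)⟩ : DRing.torsionSub K (E.X (0 - 1)))
  obtain ⟨⟨y, m, hym⟩, rfl⟩ : ∃ y' : DRing.torsionSub K (E.X (0 - 1)), y' = y := ⟨y, rfl⟩
  replace hy : s ^ k • (s • y - w) = 0 :=
    congrArg Subtype.val (hy (s ^ k) (Ideal.pow_mem_pow (Ideal.mem_span_singleton_self s) k))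
  let z' := z - (E.d (0 - 1) 0).hom y
  have hz's : s ^ (k + 1) • z' = 0 := by
    have h1 : (E.d (0 - 1) 0).hom (s ^ k • (s • y - w)) = 0 := by rw [hy, map_zero]
    rw [map_smul, map_sub, map_smul, hdw] at h1
    have : s ^ (k + 1) • z' = -(s ^ k • (s • (E.d (0 - 1) 0).hom y - s • z)) := by
      rw [pow_succ, mul_smul, ← smul_neg, neg_sub, smul_sub s]
    rw [this, h1, neg_zero]
  have hJK : PrimeSpectrum.zeroLocus ((J * K ^ m : Ideal A) : Set A) ⊆ T :=
    zeroLocus_mul_subset T hJ (zeroLocus_pow_subset T hK m)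
  have hk' : ∀ a ∈ (J * K ^ m) ^ 1, a • z' = 0 := fun a ha => by
    rw [pow_one] at ha
    rw [smul_sub, ← map_smul, hk a (Ideal.mul_le_left (I := J) (J := K ^ m) ha),
      hym a (Ideal.mul_le_right (I := J) (J := K ^ m) ha), map_zero, sub_zero]
  have hd' : (E.d 0 (0 + 1)).hom z' = 0 := by
    rw [map_sub, hd]
    show (0 : E.X (0 + 1)) - (E.d (0 - 1) 0 ≫ E.d 0 (0 + 1)).hom y = 0
    rw [E.d_comp_d]; simp
  refine ⟨el _ e _ (zeroLocus_sup_span_subset hJK s (k + 1) 1) z' (kill_sup hz's hk') hd', ?_⟩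
  rw [res_el]
  exact (el_eq_of_sub T e hJ ((zeroLocus_sup_span_subset hJK s (k + 1) 1).trans Set.inter_subset_left) z z' hk hd
    (kill_sup hz's hk') hd' (K ^ m) (zeroLocus_pow_subset T hK m) y hym (by simp [z'])).symm

/-- The kernel of `res` is killed by what kills the degree below. -/
theorem smul_eq_zero_of_res {T : Set (PrimeSpectrum A)} {W : Dual.D A} (s a : A)
    (ha : ∀ y : H T (W⟦(-1 : ℤ)⟧), a • y = 0) (x : H (T ∩ PrimeSpectrum.zeroLocus {s}) W)
    (hx : res Set.inter_subset_left W x = 0) : a • x = 0 := by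
  obtain ⟨E, hE, hinj, ⟨e⟩⟩ := RG.exists_model W
  obtain ⟨J, hJ, z, hk, hd, rfl⟩ := exists_el _ e x
  rw [res_el] at hx
  obtain ⟨K, w, hK, hw, hdw⟩ := exists_of_el_eq_zero T e hx
  obtain ⟨n, hn⟩ : ∃ n, s ^ n ∈ J := by
    have h1 : PrimeSpectrum.zeroLocus (J : Set A) ⊆ PrimeSpectrum.zeroLocus ((Ideal.span {s} : Ideal A) : Set A) := by
      rw [PrimeSpectrum.zeroLocus_span]; exact fun q hq => (hJ hq).2
    exact (PrimeSpectrum.zeroLocus_subset_zeroLocus_iff J (Ideal.span {s})).1 h1 (Ideal.mem_span_singleton_self s)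
  let E' : DRing.Cx A := E⟦(-1 : ℤ)⟧
  let e' : DRing.toD E' ≅ W⟦(-1 : ℤ)⟧ :=
    (DerivedCategory.Q.commShiftIso (-1 : ℤ)).app E ≪≫ (shiftFunctor (Dual.D A) (-1 : ℤ)).mapIso e
  let w' : E'.X 0 := s ^ n • w
  have hd0 : (E.d (0 - 1) 0).hom (s ^ n • w) = 0 := by rw [map_smul, hdw, hk _ hn]
  have hdw' : (E'.d 0 (0 + 1)).hom w' = 0 := by
    refine (shift_neg_one_d_apply E 0 (0 + 1) (s ^ n • w)).trans ?_
    show -((E.d (0 - 1) 0).hom (s ^ n • w)) = 0
    rw [hd0, neg_zero]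
  have hkw' : ∀ c ∈ K, c • w' = 0 := fun c hc => by
    show c • s ^ n • w = (0 : E.X (0 - 1))
    rw [smul_comm, hw c hc, smul_zero]
  have hzero := ha (el T e' K hK w' hkw' hdw')
  rw [smul_el] at hzero
  obtain ⟨K', v, hK', hv, hdv⟩ := exists_of_el_eq_zero T e' hzero
  let v₀ : E.X (0 - 1 - 1) := v
  have hdv₀ : -(E.d (0 - 1 - 1) (0 - 1)).hom v₀ = a • s ^ n • w :=
    (shift_neg_one_d_apply E (0 - 1) 0 v).symm.trans hdv
  haveI := H4LC.injective_torsionSub K' (E.X (0 - 1 - 1)) (hinj _)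
  obtain ⟨y, k, hy⟩ := H4LC.exists_sub_smul_mem_torsionSub (s ^ n)
    (⟨v₀, 1, fun c hc => hv c ((pow_one K').le hc)⟩ : DRing.torsionSub K' (E.X (0 - 1 - 1)))
  obtain ⟨⟨y, m, hym⟩, rfl⟩ : ∃ y' : DRing.torsionSub K' (E.X (0 - 1 - 1)), y' = y := ⟨y, rfl⟩
  replace hy : (s ^ n) ^ k • (s ^ n • y - v₀) = 0 :=
    congrArg Subtype.val (hy ((s ^ n) ^ k) (Ideal.pow_mem_pow (Ideal.mem_span_singleton_self _) k))
  let u := a • w + (E.d (0 - 1 - 1) (0 - 1)).hom y
  have hus : s ^ (n * (k + 1)) • u = 0 := by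
    have h1 : (E.d (0 - 1 - 1) (0 - 1)).hom ((s ^ n) ^ k • (s ^ n • y - v₀)) = 0 := by rw [hy, map_zero]
    rw [map_smul (E.d (0 - 1 - 1) (0 - 1)).hom, map_sub, map_smul, neg_eq_iff_eq_neg.1 hdv₀, sub_neg_eq_add] at h1
    rw [pow_mul, pow_succ, mul_smul, show s ^ n • u = s ^ n • (E.d (0 - 1 - 1) (0 - 1)).hom y + a • s ^ n • w by
      rw [smul_add, smul_comm a (s ^ n) w, add_comm]]
    exact h1
  have hKK : PrimeSpectrum.zeroLocus ((K * K' ^ m : Ideal A) : Set A) ⊆ T :=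
    zeroLocus_mul_subset T hK (zeroLocus_pow_subset T hK' m)
  have hku : ∀ c ∈ (K * K' ^ m) ^ 1, c • u = 0 := fun c hc => by
    rw [pow_one] at hc
    rw [smul_add, smul_comm, hw c (Ideal.mul_le_left (I := K) (J := K' ^ m) hc), smul_zero, zero_add, ← map_smul,
      hym c (Ideal.mul_le_right (I := K) (J := K' ^ m) hc), map_zero]
  rw [smul_el]
  refine el_d_eq_zero _ e hJ _ _ _ _ (zeroLocus_sup_span_subset hKK s (n * (k + 1)) 1) u (kill_sup hus hku) ?_
  rw [map_add, map_smul, hdw]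
  show a • z + (E.d (0 - 1 - 1) (0 - 1) ≫ E.d (0 - 1) 0).hom y = a • z
  rw [E.d_comp_d]
  simp

/-- Local annihilation gives annihilation: `J^c` kills `H T'` if all chains in `T'` are shorter than `c`. -/
theorem kill_of_local {T : Set (PrimeSpectrum A)} {W : Dual.D A} (J : Ideal A)
    (hloc : ∀ q ∈ T, ∀ a ∈ J, ∀ y : H (PrimeSpectrum.zeroLocus (q.asIdeal : Set A)) W,
      ∃ s ∉ q.asIdeal, s • a • y = 0) :
    ∀ (c : ℕ) (T' : Set (PrimeSpectrum A)), T' ⊆ T → (∀ q ∈ T', Order.coheight q < (c : ℕ∞)) →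
      ∀ a ∈ J ^ c, ∀ x : H T' W, a • x = 0 := by
  classical
  intro c
  induction c with
  | zero =>
    intro T' _ hc a _ x
    haveI : Subsingleton (H T' W) := subsingleton_of_forall_eq 0 fun x => by
      obtain ⟨K, hK, x, rfl⟩ := exists_rep T' x
      have hK' : K = ⊤ := by
        by_contra hne
        obtain ⟨q, hq, hle⟩ := Ideal.exists_le_maximal K hne
        have := hc ⟨q, hq.isPrime⟩ (hK hle)
        simp at this
      subst hK'
      rw [@Subsingleton.elim _ (Ext.subsingleton_ex_of_subsingleton (A ⧸ (⊤ : Ideal A)) W) x 0, map_zero]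
    exact Subsingleton.elim _ _
  | succ c ih =>
    intro T' hT' hc a ha x
    obtain ⟨J₀, hJ₀, x₀, rfl⟩ := exists_rep T' x
    rw [pow_succ] at ha
    refine Submodule.mul_induction_on ha (fun b hb a ha => ?_) (fun u v hu hv => by rw [add_smul, hu, hv, add_zero])
    let V := PrimeSpectrum.zeroLocus (J₀ : Set A)
    let x' : H V W := ι V W J₀ subset_rfl x₀
    -- some element outside the minimal primes of `J₀` kills `a • x'`
    let 𝔰 : Ideal A := LinearMap.ker (LinearMap.toSpanSingleton A (H V W) (a • x'))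
    have hmem : ∀ s, s ∈ 𝔰 ↔ s • a • x' = 0 := fun s => LinearMap.mem_ker
    have hq : ∀ q ∈ J₀.minimalPrimes, ¬ 𝔰 ≤ q := fun q hq hle => by
      haveI := hq.1.1
      let qq : PrimeSpectrum A := ⟨q, hq.1.1⟩
      obtain ⟨s₀, hs₀q, hs₀⟩ : ∃ s₀ ∉ q, Ideal.span {s₀} * q ≤ J₀.radical := by
        let P := ((Ideal.finite_minimalPrimes_of_isNoetherianRing A J₀).toFinset.erase q)
        have hP : ¬ (∏ r ∈ P, r) ≤ q := fun h => by
          obtain ⟨r, hr, hrq⟩ := (Ideal.IsPrime.prod_le hq.1.1).1 h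
          obtain ⟨hne, hr'⟩ := Finset.mem_erase.1 hr
          rw [Set.Finite.mem_toFinset] at hr'
          exact hne (le_antisymm hrq (hq.2 hr'.1 hrq))
        obtain ⟨s₀, hs, hs'⟩ := SetLike.not_le_iff_exists.1 hP
        refine ⟨s₀, hs', ?_⟩
        rw [← Ideal.sInf_minimalPrimes]
        refine le_sInf fun r hr => ?_
        by_cases hrq : r = q
        · subst hrq; exact Ideal.mul_le_right
        · refine Ideal.mul_le_left.trans ((Ideal.span_singleton_le_iff_mem _).2 ?_)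
          exact (Ideal.prod_le_inf.trans (Finset.inf_le (f := id)
            (Finset.mem_erase.2 ⟨hrq, (Set.Finite.mem_toFinset _).2 hr⟩))) hs
      obtain ⟨n, hn⟩ := Ideal.exists_pow_le_of_le_radical_of_fg hs₀ (IsNoetherian.noetherian _)
      rw [mul_pow, Ideal.span_singleton_pow] at hn
      let Vq := PrimeSpectrum.zeroLocus (q : Set A)
      have hVq : Vq ⊆ V := PrimeSpectrum.zeroLocus_anti_mono_ideal hq.1.2
      obtain ⟨E, hE, hinj, ⟨e⟩⟩ := RG.exists_model W
      obtain ⟨J₁, hJ₁, z, hk, hd, hz⟩ := exists_el V e x'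
      -- a multiple of `x'` lives on `V(q)`
      obtain ⟨n₁, hn₁⟩ := exists_pow_le J₀ hJ₁
      have hkq : ∀ c ∈ q ^ (n * n₁), c • ((s₀ ^ n) ^ n₁ • z) = 0 := fun c hc => by
        rw [smul_smul, mul_comm]
        refine hk _ (hn₁ ?_)
        have h2 : (Ideal.span {s₀ ^ n} * q ^ n) ^ n₁ ≤ J₀ ^ n₁ := Ideal.pow_right_mono hn n₁
        rw [mul_pow, Ideal.span_singleton_pow, ← pow_mul q n n₁] at h2
        exact h2 (Ideal.mul_mem_mul (Ideal.mem_span_singleton_self _) hc)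
      let y : H Vq W := el Vq e _ (zeroLocus_pow_subset Vq subset_rfl (n * n₁)) ((s₀ ^ n) ^ n₁ • z) hkq
        (by rw [map_smul, hd, smul_zero])
      have hy : res hVq W y = (s₀ ^ n) ^ n₁ • x' := by
        rw [res_el, ← hz, smul_el]
        exact el_eq_of_sub V e _ _ _ _ _ _ _ _ ⊤ (zeroLocus_top_subset V) 0 (fun _ _ => smul_zero _) (by simp)
      obtain ⟨s, hs, hsy⟩ := hloc qq (hT' (hJ₀ hq.1.2)) a ha y
      have : s * (s₀ ^ n) ^ n₁ ∈ 𝔰 := (hmem _).2 (by
        rw [mul_smul, smul_comm ((s₀ ^ n) ^ n₁) a, ← hy, ← map_smul, ← map_smul, hsy, map_zero])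
      rcases hq.1.1.mem_or_mem (hle this) with h | h
      · exact hs h
      · exact hs₀q (hq.1.1.mem_of_pow_mem _ (hq.1.1.mem_of_pow_mem _ h))
    obtain ⟨s, hs𝔰, hs⟩ : ∃ s ∈ 𝔰, ∀ q ∈ J₀.minimalPrimes, s ∉ q := by
      by_contra hcon
      push Not at hcon
      have hsub : (𝔰 : Set A) ⊆ ⋃ r ∈ ((Ideal.finite_minimalPrimes_of_isNoetherianRing A J₀).toFinset : Set (Ideal A)),
          (r : Set A) := fun s hs => by
        obtain ⟨r, hr, hsr⟩ := hcon s hs
        exact Set.mem_biUnion (by simpa using hr) hsr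
      obtain ⟨r, hr, hle⟩ := (Ideal.subset_union_prime ⊥ ⊥ fun r hr _ _ => by
        rw [Set.Finite.mem_toFinset] at hr; exact hr.1.1).1 hsub
      rw [Set.Finite.mem_toFinset] at hr
      exact hq r hr hle
    obtain ⟨y, hy⟩ := exists_res_of_smul_eq_zero s (a • x') ((hmem s).1 hs𝔰)
    have hsub' : V ∩ PrimeSpectrum.zeroLocus {s} ⊆ T' := Set.inter_subset_left.trans hJ₀
    have hby : b • y = 0 := by
      refine ih _ (hsub'.trans hT') (fun r hr => ?_) b hb y
      obtain ⟨r₀, hr₀, hle⟩ := Ideal.exists_minimalPrimes_le (show J₀ ≤ r.asIdeal from hr.1)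
      have hne : r₀ ≠ r.asIdeal := fun h => hs r₀ hr₀ (h ▸ hr.2 rfl)
      let rr : PrimeSpectrum A := ⟨r₀, hr₀.1.1⟩
      have hlt : rr < r := lt_of_le_of_ne hle fun h => hne (congrArg PrimeSpectrum.asIdeal h)
      have h1 : Order.coheight r + 1 ≤ Order.coheight rr := Order.coheight_add_one_le hlt
      have h2 : Order.coheight r + 1 < ((c + 1 : ℕ) : ℕ∞) := h1.trans_lt (hc rr (hJ₀ hr₀.1.2))
      rw [Nat.cast_succ] at h2
      exact (ENat.add_lt_add_iff_right ENat.one_ne_top).1 h2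
    have h3 : res hJ₀ W (b • a • x') = 0 := by
      rw [← hy, ← map_smul (res Set.inter_subset_left W) b y, hby, map_zero, map_zero]
    rw [mul_smul]
    rwa [map_smul, map_smul, res_ι] at h3

/-- Annihilation for all degrees up to `0` passes to the smaller subsets `T ∩ V(fs)`. -/
theorem kill_inter {T : Set (PrimeSpectrum A)} (J : Ideal A) : ∀ (fs : List A) (W : Dual.D A) (N : ℕ),
    (∀ i : ℤ, i ≤ 0 → ∀ a ∈ J ^ N, ∀ x : H T (W⟦i⟧), a • x = 0) →
    ∀ i : ℤ, i ≤ 0 → ∀ a ∈ J ^ (2 ^ fs.length * N), ∀ x : H (T ∩ PrimeSpectrum.zeroLocus {f | f ∈ fs}) (W⟦i⟧),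
      a • x = 0
  | [], W, N, h, i, hi, a, ha, x => by
    have heq : T ⊆ T ∩ PrimeSpectrum.zeroLocus {f : A | f ∈ ([] : List A)} := fun q hq => ⟨hq, fun f hf => by simp at hf⟩
    obtain ⟨J', hJ', x, rfl⟩ := exists_rep _ x
    have := congrArg (res heq _) (h i hi a (by simpa using ha) (ι T _ J' (hJ'.trans Set.inter_subset_left) x))
    rwa [map_smul, map_zero, res_ι] at this
  | s :: fs, W, N, h, i, hi, a, ha, x => by
    have ih := kill_inter J fs W N h
    let T₁ := T ∩ PrimeSpectrum.zeroLocus {f | f ∈ fs}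
    have heq : T ∩ PrimeSpectrum.zeroLocus {f | f ∈ s :: fs} = T₁ ∩ PrimeSpectrum.zeroLocus {s} := by
      ext q
      simp only [T₁, Set.mem_inter_iff, PrimeSpectrum.mem_zeroLocus, Set.singleton_subset_iff, and_assoc]
      refine and_congr_right fun _ => ⟨fun hq => ⟨fun f hf => hq (List.mem_cons_of_mem s hf), hq List.mem_cons_self⟩,
        fun hq f hf => ?_⟩
      rcases List.mem_cons.1 hf with rfl | hf
      · exact hq.2
      · exact hq.1 hf
    revert x
    rw [heq]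
    intro x
    rw [show 2 ^ (s :: fs).length * N = 2 ^ fs.length * N + 2 ^ fs.length * N by
      rw [List.length_cons, pow_succ]; ring, pow_add] at ha
    refine Submodule.mul_induction_on ha (fun b hb c hc => ?_) (fun u v hu hv => by rw [add_smul, hu, hv, add_zero])
    rw [mul_smul]
    refine smul_eq_zero_of_res s b (fun y => ?_) (c • x) (by rw [map_smul]; exact ih i hi c hc _)
    exact (hEquiv T₁ ((shiftFunctorAdd' (Dual.D A) i (-1) (i - 1) (by ring)).app W).symm).injective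
      (by rw [map_smul, map_zero]; exact ih (i - 1) (by omega) b hb _)

end Groth.Agent.H4DR.HT
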