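import Groth.Prelude.Def_DualLC
import Groth.Agent.H4DR.LD.Colim
import Mathlib.Algebra.Category.ModuleCat.FilteredColimits

/-!
# `colim_J Hom(A/J, W)` over the ideals supported in a subset of the spectrum
-/

set_option autoImplicit false
set_option linter.style.haveILetI false
set_option linter.unusedVariables false

universe u

open CategoryTheory CategoryTheory.Limits Pretriangulated
open Groth.Agent.H4DR.Ext (pre post inM)

attribute [local instance] HasDerivedCategory.standard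

namespace Groth.Agent.H4DR.HT

variable {A : Type u} [CommRing A] (T : Set (PrimeSpectrum A))

/-- `A/J` in `D(A)`. -/
noncomputable abbrev Q (J : Ideal A) : Dual.D A := Dual.inD A (A ⧸ J)

/-- The transition morphism. -/
noncomputable def qtr {J J' : Ideal A} (h : J ≤ J') : Q J ⟶ Q J' :=
  inM (L := ModuleCat.of A (A ⧸ J)) (M := ModuleCat.of A (A ⧸ J')) (Submodule.mapQ J J' LinearMap.id h)

/-- An ideal as an object of the index category. -/
def mk (J : Ideal A) (h : PrimeSpectrum.zeroLocus (J : Set A) ⊆ T) : Dual2.IdealsIn T := ⟨J, h⟩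

/-- The underlying ideal. -/
abbrev carrier (j : Dual2.IdealsIn T) : Ideal A := (Dual2.idealsInDiagram T).obj j

lemma carrier_subset (j : Dual2.IdealsIn T) : PrimeSpectrum.zeroLocus (carrier T j : Set A) ⊆ T :=
  ObjectProperty.FullSubcategory.property j

/-- The morphism of an inclusion. -/
def hom {j k : Dual2.IdealsIn T} (h : carrier T j ≤ carrier T k) : j ⟶ k := ObjectProperty.homMk (homOfLE h)

lemma zeroLocus_top_subset : PrimeSpectrum.zeroLocus ((⊤ : Ideal A) : Set A) ⊆ T := by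
  rw [Submodule.top_coe, PrimeSpectrum.zeroLocus_univ]; exact Set.empty_subset _

lemma zeroLocus_mul_subset {J J' : Ideal A} (h : PrimeSpectrum.zeroLocus (J : Set A) ⊆ T)
    (h' : PrimeSpectrum.zeroLocus (J' : Set A) ⊆ T) : PrimeSpectrum.zeroLocus ((J * J' : Ideal A) : Set A) ⊆ T := by
  rw [PrimeSpectrum.zeroLocus_mul]; exact Set.union_subset h h'

lemma zeroLocus_inf_subset {J J' : Ideal A} (h : PrimeSpectrum.zeroLocus (J : Set A) ⊆ T)
    (h' : PrimeSpectrum.zeroLocus (J' : Set A) ⊆ T) : PrimeSpectrum.zeroLocus ((J ⊓ J' : Ideal A) : Set A) ⊆ T := by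
  rw [PrimeSpectrum.zeroLocus_inf]; exact Set.union_subset h h'

lemma zeroLocus_pow_subset {J : Ideal A} (h : PrimeSpectrum.zeroLocus (J : Set A) ⊆ T) :
    ∀ n : ℕ, PrimeSpectrum.zeroLocus ((J ^ n : Ideal A) : Set A) ⊆ T
  | 0 => by rw [pow_zero, Ideal.one_eq_top]; exact zeroLocus_top_subset T
  | n + 1 => by rw [pow_succ]; exact zeroLocus_mul_subset T (zeroLocus_pow_subset h n) h

instance : IsFiltered (Dual2.IdealsIn T)ᵒᵖ :=
  haveI : Nonempty (Dual2.IdealsIn T) := ⟨mk T ⊤ (zeroLocus_top_subset T)⟩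
  haveI : IsCofiltered (Dual2.IdealsIn T) :=
    { nonempty := inferInstance
      cone_objs := fun j k => ⟨mk T _ (zeroLocus_inf_subset T (carrier_subset T j) (carrier_subset T k)),
        hom T inf_le_left, hom T inf_le_right, trivial⟩
      cone_maps := fun j k f g => ⟨j, 𝟙 j, by
        rw [show f = g from ObjectProperty.hom_ext _ (Subsingleton.elim _ _)]⟩ }
  inferInstance

instance preservesColimit_forget (F : (Dual2.IdealsIn T)ᵒᵖ ⥤ ModuleCat.{u + 1} A) :
    PreservesColimit F (forget (ModuleCat.{u + 1} A)) := by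
  haveI : PreservesFilteredColimitsOfSize.{u + 1, u + 1}
      (forget₂ (ModuleCat.{u + 1} A) AddCommGrpCat.{u + 1}) :=
    { preserves_filtered_colimits := fun J _ _ =>
        { preservesColimit := fun {F} => preservesColimit_of_preserves_colimit_cocone
            (ModuleCat.FilteredColimits.colimitCoconeIsColimit F)
            (AddCommGrpCat.FilteredColimits.colimitCoconeIsColimit
              (F ⋙ forget₂ (ModuleCat.{u + 1} A) AddCommGrpCat.{u + 1})) } }
  haveI : PreservesFilteredColimitsOfSize.{u + 1, u + 1} (forget (ModuleCat.{u + 1} A)) :=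
    Limits.comp_preservesFilteredColimits (forget₂ (ModuleCat.{u + 1} A) AddCommGrpCat.{u + 1}) (forget _)
  haveI : PreservesFilteredColimitsOfSize.{u, u} (forget (ModuleCat.{u + 1} A)) :=
    preservesFilteredColimitsOfSize_shrink.{u, u + 1, u, u + 1} _
  infer_instance

/-- The system. -/
noncomputable abbrev sys (W : Dual.D A) : (Dual2.IdealsIn T)ᵒᵖ ⥤ ModuleCat.{u + 1} A :=
  (localCohomology.ringModIdeals (Dual2.idealsInDiagram T) ⋙
    DerivedCategory.singleFunctor (ModuleCat.{u} A) 0).op ⋙ (linearYoneda A (Dual.D A)).obj W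

/-- `colim Hom(A/J, W)`. -/
noncomputable abbrev H (W : Dual.D A) : ModuleCat.{u + 1} A := colimit (sys T W)

/-- The colimit maps. -/
noncomputable def ι (W : Dual.D A) (J : Ideal A) (h : PrimeSpectrum.zeroLocus (J : Set A) ⊆ T) :
    (Q J ⟶ W) →ₗ[A] H T W :=
  (colimit.ι (sys T W) (Opposite.op (mk T J h))).hom

theorem exists_rep {W : Dual.D A} (z : H T W) :
    ∃ (J : Ideal A) (h : PrimeSpectrum.zeroLocus (J : Set A) ⊆ T) (x : Q J ⟶ W), ι T W J h x = z := by
  obtain ⟨j, x, hx⟩ := Concrete.colimit_exists_rep (sys T W) z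
  exact ⟨carrier T j.unop, carrier_subset T j.unop, x, hx⟩

theorem ι_qtr (W : Dual.D A) {J J' : Ideal A} (h : PrimeSpectrum.zeroLocus (J : Set A) ⊆ T)
    (h' : PrimeSpectrum.zeroLocus (J' : Set A) ⊆ T) (hle : J' ≤ J) (x : Q J ⟶ W) :
    ι T W J' h' (qtr hle ≫ x) = ι T W J h x :=
  congr($(colimit.w (sys T W) (hom T (j := mk T J' h') (k := mk T J h) hle).op).hom x)

theorem ι_eq_zero {W : Dual.D A} {J : Ideal A} {h : PrimeSpectrum.zeroLocus (J : Set A) ⊆ T} {x : Q J ⟶ W}
    (hx : ι T W J h x = 0) :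
    ∃ (J' : Ideal A) (hle : J' ≤ J), PrimeSpectrum.zeroLocus (J' : Set A) ⊆ T ∧ qtr hle ≫ x = 0 := by
  obtain ⟨k, f, g, hk⟩ := (Concrete.colimit_rep_eq_iff_exists (sys T W)
    (i := Opposite.op (mk T J h)) (j := Opposite.op (mk T J h)) x 0).1 (hx.trans (map_zero _).symm)
  exact ⟨carrier T k.unop, leOfHom ((Dual2.idealsInDiagram T).map f.unop), carrier_subset T k.unop,
    hk.trans (map_zero _)⟩

theorem smul_Q_eq_zero (J : Ideal A) {a : A} (ha : a ∈ J) : a • 𝟙 (Q J) = 0 := by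
  rw [← CategoryTheory.Functor.map_id, ← Functor.map_smul]
  refine (congrArg _ (ModuleCat.hom_ext (Submodule.linearMap_qext _ (LinearMap.ext_ring ?_)))).trans
    (Functor.map_zero _ _ _)
  show a • (Submodule.Quotient.mk (1 : A) : A ⧸ J) = 0
  rw [← Submodule.Quotient.mk_smul, smul_eq_mul, mul_one, Submodule.Quotient.mk_eq_zero]
  exact ha

/-- Every element is killed by an ideal supported in `T`. -/
theorem exists_kill {W : Dual.D A} (z : H T W) :
    ∃ J : Ideal A, PrimeSpectrum.zeroLocus (J : Set A) ⊆ T ∧ ∀ a ∈ J, a • z = 0 := by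
  obtain ⟨J, h, x, rfl⟩ := exists_rep T z
  refine ⟨J, h, fun a ha => ?_⟩
  rw [← map_smul, show a • x = (a • 𝟙 (Q J)) ≫ x by rw [Linear.smul_comp, Category.id_comp],
    smul_Q_eq_zero J ha, zero_comp, map_zero]

theorem subsingleton_H {W : Dual.D A} (h : ∀ J, Subsingleton (Q J ⟶ W)) : Subsingleton (H T W) :=
  subsingleton_of_forall_eq 0 fun z => by
    obtain ⟨J, hJ, x, rfl⟩ := exists_rep T z
    rw [@Subsingleton.elim _ (h J) x 0, map_zero]

/-- The induced map. -/
noncomputable def hmap {W W' : Dual.D A} (g : W ⟶ W') : H T W →ₗ[A] H T W' :=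
  (colimMap (Functor.whiskerLeft _ ((linearYoneda A (Dual.D A)).map g) : sys T W ⟶ sys T W')).hom

@[simp]
theorem hmap_ι {W W' : Dual.D A} (g : W ⟶ W') (J : Ideal A) (h : PrimeSpectrum.zeroLocus (J : Set A) ⊆ T)
    (x : Q J ⟶ W) : hmap T g (ι T W J h x) = ι T W' J h (x ≫ g) :=
  congr($(ι_colimMap (Functor.whiskerLeft _ ((linearYoneda A (Dual.D A)).map g) : sys T W ⟶ sys T W')
    (Opposite.op (mk T J h))).hom x)

theorem hmap_comp {W W' W'' : Dual.D A} (g : W ⟶ W') (g' : W' ⟶ W'') (z : H T W) :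
    hmap T (g ≫ g') z = hmap T g' (hmap T g z) := by
  obtain ⟨J, h, x, rfl⟩ := exists_rep T z
  simp

theorem hmap_smul {W W' : Dual.D A} (a : A) (g : W ⟶ W') (z : H T W) : hmap T (a • g) z = a • hmap T g z := by
  obtain ⟨J, h, x, rfl⟩ := exists_rep T z
  simp [Linear.comp_smul]

theorem hmap_id (W : Dual.D A) (z : H T W) : hmap T (𝟙 W) z = z := by
  obtain ⟨J, h, x, rfl⟩ := exists_rep T z
  simp

/-- Isomorphic objects. -/
noncomputable def hEquiv {W W' : Dual.D A} (e : W ≅ W') : H T W ≃ₗ[A] H T W' :=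
  LinearEquiv.ofLinearMap (hmap T e.hom) (hmap T e.inv)
    (LinearMap.ext fun z => by rw [LinearMap.comp_apply, ← hmap_comp, e.inv_hom_id, hmap_id]; rfl)
    (LinearMap.ext fun z => by rw [LinearMap.comp_apply, ← hmap_comp, e.hom_inv_id, hmap_id]; rfl)

theorem exact_hmap (Δ : Triangle (Dual.D A)) (hΔ : Δ ∈ distTriang (Dual.D A)) :
    Function.Exact (hmap T Δ.mor₁) (hmap T Δ.mor₂) := fun z => by
  refine ⟨fun hz => ?_, ?_⟩
  · obtain ⟨J, hJ, x, rfl⟩ := exists_rep T z
    rw [hmap_ι] at hz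
    obtain ⟨J', hle, hJ', hx⟩ := ι_eq_zero T hz
    obtain ⟨y, hy⟩ := Δ.coyoneda_exact₂ hΔ (qtr hle ≫ x) (by rw [Category.assoc]; exact hx)
    exact ⟨ι T _ J' hJ' y, by rw [hmap_ι, ← hy, ι_qtr T _ hJ hJ' hle]⟩
  · rintro ⟨w, rfl⟩
    rw [← hmap_comp, comp_distTriang_mor_zero₁₂ _ hΔ]
    simpa using hmap_smul T (0 : A) (Δ.mor₁ ≫ Δ.mor₂) w

theorem finite_H₂ [IsNoetherianRing A] (Δ : Triangle (Dual.D A)) (hΔ : Δ ∈ distTriang (Dual.D A))
    (h₁ : Module.Finite A (H T Δ.obj₁)) (h₃ : Module.Finite A (H T Δ.obj₃)) : Module.Finite A (H T Δ.obj₂) := by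
  haveI := isNoetherian_of_isNoetherianRing_of_finite A (H T Δ.obj₁)
  haveI := isNoetherian_of_isNoetherianRing_of_finite A (H T Δ.obj₃)
  haveI := isNoetherian_of_range_eq_ker (hmap T Δ.mor₁) (hmap T Δ.mor₂)
    (LinearMap.exact_iff.1 (exact_hmap T Δ hΔ)).symm
  exact Module.IsNoetherian.finite A _

/-- A finitely generated submodule of a torsion module is killed by one ideal supported in `T`. -/
theorem exists_kill_fg_aux {M : Type*} [AddCommGroup M] [Module A M]
    (hk : ∀ z : M, ∃ J : Ideal A, PrimeSpectrum.zeroLocus (J : Set A) ⊆ T ∧ ∀ a ∈ J, a • z = 0)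
    {F : Submodule A M} (hF : F.FG) :
    ∃ J : Ideal A, PrimeSpectrum.zeroLocus (J : Set A) ⊆ T ∧ ∀ a ∈ J, ∀ z ∈ F, a • z = 0 := by
  classical
  obtain ⟨G, rfl⟩ := hF
  induction G using Finset.induction_on with
  | empty => exact ⟨⊤, zeroLocus_top_subset T, fun a _ z hz => by
      rw [Finset.coe_empty, Submodule.span_empty, Submodule.mem_bot] at hz
      rw [hz, smul_zero]⟩
  | insert z G _ ih =>
    obtain ⟨J₁, hJ₁, k₁⟩ := hk z
    obtain ⟨J₂, hJ₂, k₂⟩ := ih
    refine ⟨J₁ * J₂, zeroLocus_mul_subset T hJ₁ hJ₂, fun a ha w hw => ?_⟩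
    rw [Finset.coe_insert, Submodule.mem_span_insert] at hw
    obtain ⟨c, y, hy, rfl⟩ := hw
    rw [smul_add, smul_comm a c z, k₁ a (Ideal.mul_le_left (I := J₁) (J := J₂) ha), smul_zero, zero_add,
      k₂ a (Ideal.mul_le_right (I := J₁) (J := J₂) ha) y hy]

/-- A finitely generated submodule of `H T W` is killed by one ideal supported in `T`. -/
theorem exists_kill_fg {W : Dual.D A} {F : Submodule A (H T W)} (hF : F.FG) :
    ∃ J : Ideal A, PrimeSpectrum.zeroLocus (J : Set A) ⊆ T ∧ ∀ a ∈ J, ∀ z ∈ F, a • z = 0 :=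
  exists_kill_fg_aux T (M := H T W) (fun z => exists_kill T z) hF

theorem exists_kill_of_finite {W : Dual.D A} (h : Module.Finite A (H T W)) :
    ∃ J : Ideal A, PrimeSpectrum.zeroLocus (J : Set A) ⊆ T ∧ ∀ a ∈ J, ∀ z : H T W, a • z = 0 := by
  obtain ⟨J, hJ, hk⟩ := exists_kill_fg T h.fg_top
  exact ⟨J, hJ, fun a ha z => hk a ha z trivial⟩

end Groth.Agent.H4DR.HT
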