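import Groth.Agent.H4DR.HT.Localize
import Groth.Agent.H4DR.LD.Localized
import Groth.Agent.H4DR.Ext.InjAmp

/-!
# Local cohomology at the primes and `Ext(K, ω)`
-/

set_option autoImplicit false
set_option linter.style.haveILetI false
set_option linter.unusedVariables false

universe u v

open CategoryTheory CategoryTheory.Limits Pretriangulated TensorProduct
open Groth.Agent.H4DR.Ext (Ex addLin)
open Groth.Agent.H4DR.FlatBC (F FD toFₗ hBC exBC)
open Groth.Agent.H4DR.Dualizing (Loc loc deg)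

attribute [local instance] HasDerivedCategory.standard

namespace Groth.Agent.H4DR.HT

variable {A : Type u} [CommRing A]

/-- The annihilator of a localised module. -/
theorem algebraMap_smul_tensor_eq_zero_iff (q : PrimeSpectrum A) (N : Type v) [AddCommGroup N] [Module A N] (a : A) :
    (∀ t : Loc q ⊗[A] N, algebraMap A (Loc q) a • t = 0) ↔ ∀ x : N, ∃ s ∉ q.asIdeal, s • a • x = 0 := by
  refine ⟨fun h x => exists_smul_eq_zero_of_tmul q (x := a • x) ?_, fun h t => ?_⟩
  · rw [TensorProduct.tmul_smul, ← algebraMap_smul (Loc q)]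
    exact h _
  · induction t using TensorProduct.induction_on with
    | zero => exact smul_zero _
    | add x y hx hy => rw [smul_add, hx, hy, add_zero]
    | tmul c x =>
      obtain ⟨s, hs, h0⟩ := h x
      refine (IsLocalization.map_units (Loc q) (⟨s, hs⟩ : q.asIdeal.primeCompl)).smul_eq_zero.1 ?_
      rw [algebraMap_smul, algebraMap_smul, ← TensorProduct.tmul_smul, ← TensorProduct.tmul_smul, h0,
        TensorProduct.tmul_zero]

variable [IsNoetherianRing A] {ω : Dual.D A} (hω : Dual.IsDualizing A ω) {K : Dual.D A} {m m' : ℤ}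
  (hb : ∀ j : ℤ, j < m ∨ m' < j → Subsingleton (Dual.HD A K j))
  (hf : ∀ j : ℤ, Module.Finite A (Dual.HD A K j))

/-- Local cohomology of `K_q` is dual to the localisation of `Ext(K, ω)`. -/
theorem exists_duality (q : PrimeSpectrum A) (i : ℤ)
    (hω : Dual.IsDualizing A ω) (hb : ∀ j : ℤ, j < m ∨ m' < j → Subsingleton (Dual.HD A K j))
    (hf : ∀ j : ℤ, Module.Finite A (Dual.HD A K j)) :
    ∃ (E : Type u) (_ : AddCommGroup E) (_ : Module (Loc q) E)
      (f : IsLocalRing.ResidueField (Loc q) →ₗ[Loc q] E) (_ : InjHull.IsInjectiveHull f),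
      Nonempty (LD.H (IsLocalRing.maximalIdeal (Loc q)) ((loc K q)⟦i⟧) ≃ₗ[Loc q]
        ((Loc q ⊗[A] Ex K ω (deg hω q - i)) →ₗ[Loc q] E)) := by
  haveI := IsLocalization.flat (Loc q) q.asIdeal.primeCompl
  haveI : IsNoetherianRing (Loc q) := IsLocalization.isNoetherianRing q.asIdeal.primeCompl (Loc q) ‹_›
  obtain ⟨E, _, _, f, hfE⟩ := H4Inj.exists_isInjectiveHull (R := Loc q) (IsLocalRing.ResidueField (Loc q))
  obtain ⟨e⟩ := LD.nonempty_duality (Dualizing.isDualizing_shift (Dualizing.isDualizing_loc hω q) (deg hω q))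
    (Dualizing.isNormalized_deg hω q) hfE (K := loc K q)
    (fun j => haveI := hf j; Module.Finite.equiv (hBC (Loc q) j K).symm) (a := m) (b := m')
    (fun j hj => FlatBC.subsingleton_HD_FD (hb j hj)) i (-i) (neg_add_cancel i)
  obtain ⟨c, _, hc⟩ := Dualizing.exists_bounds hω
  refine ⟨E, inferInstance, inferInstance, f, hfE, ⟨e.trans (LinearEquiv.congrLeft E (Loc q) ?_)⟩⟩
  exact (addLin (loc K q) (loc ω q) (deg hω q) (-i) (deg hω q - i) (by ring)).symm.symm.trans
    (exBC (FlatBC.bij_of_finite (B := Loc q) hb hf (a := c - (deg hω q - i))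
      (FlatBC.subsingleton_HD_shift (fun j hj => hc j (Or.inl hj)) _))).symm

include hω hb hf

theorem subsingleton_LD_iff (q : PrimeSpectrum A) (i : ℤ) :
    Subsingleton (LD.H (IsLocalRing.maximalIdeal (Loc q)) ((loc K q)⟦i⟧)) ↔
      q ∉ Module.support A (Ex K ω (deg hω q - i)) := by
  obtain ⟨E, _, _, f, hfE, ⟨e⟩⟩ := exists_duality q i hω hb hf
  rw [e.toEquiv.subsingleton_congr, LD.subsingleton_dual_iff hfE, Dualizing.mem_support_iff_nontrivial,
    not_nontrivial_iff_subsingleton]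

/-- Annihilation of local cohomology over `V(q)`, locally at `q`. -/
theorem kill_local_iff (q : PrimeSpectrum A) (i : ℤ) (a : A) :
    (∀ y : H (PrimeSpectrum.zeroLocus (q.asIdeal : Set A)) (K⟦i⟧), ∃ s ∉ q.asIdeal, s • a • y = 0) ↔
      ∀ x : Ex K ω (deg hω q - i), ∃ s ∉ q.asIdeal, s • a • x = 0 := by
  obtain ⟨E, _, _, f, hfE, ⟨e⟩⟩ := exists_duality q i hω hb hf
  haveI := IsLocalization.flat (Loc q) q.asIdeal.primeCompl
  rw [kill_H_loc_iff q (W := K⟦i⟧) (b := m - i)
    (fun j hj => FlatBC.subsingleton_HD_shift (fun l hl => hb l (Or.inl hl)) i j hj) a,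
    ← algebraMap_smul_tensor_eq_zero_iff q]
  have e' : LD.H (IsLocalRing.maximalIdeal (Loc q)) (loc (K⟦i⟧) q) ≃ₗ[Loc q]
      ((Loc q ⊗[A] Ex K ω (deg hω q - i)) →ₗ[Loc q] E) := (LD.hEquiv (IsLocalRing.maximalIdeal (Loc q)) (((FD A (Loc q)).commShiftIso i).app K)).trans e
  rw [← Module.mem_annihilator, ← Module.mem_annihilator, e'.annihilator_eq, LD.annihilator_dual hfE]

/-- The modules `Ext^j(K, ω)` are finite and vanish outside a bounded range. -/
theorem exists_range : ∃ j₀ j₁ : ℤ, (∀ j : ℤ, Module.Finite A (Ex K ω j)) ∧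
    ∀ j : ℤ, j < j₀ ∨ j₁ < j → Subsingleton (Ex K ω j) := by
  obtain ⟨E, a, b, hv, hE, ⟨e⟩⟩ := Dualizing.exists_injRep (K := ω) hω.finite_injective_dimension
  refine ⟨a - m', b - m, fun j => Ext.finite_ex hω.finite_cohomology ⟨E, hv, hE, ⟨e⟩⟩ hf j, fun j hj => ?_⟩
  rcases hj with hj | hj
  · exact Ext.subsingleton_ex_of_LE (c := m') (fun l hl => hb l (Or.inr hl)) hv hE e (by omega)
  · exact Ext.subsingleton_ex_of_GE (c := m) (fun l hl => hb l (Or.inl hl)) hv hE e (by omega)

end Groth.Agent.H4DR.HT
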