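import Groth.Agent.H4DR.HT.Torsion
import Groth.Agent.H4DR.DComplete.Adic.Orth
import Mathlib.RingTheory.Noetherian.Basic

/-!
# Finiteness of `colim_J Hom(A/J, W)` is equivalent to annihilation
-/

set_option autoImplicit false
set_option linter.style.haveILetI false
set_option linter.unusedVariables false

universe u

open CategoryTheory CategoryTheory.Limits Pretriangulated

attribute [local instance] HasDerivedCategory.standard

namespace Groth.Agent.H4DR.HT

variable {A : Type u} [CommRing A] (T : Set (PrimeSpectrum A))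

theorem mul_mem_annihilator {M N P : Type u} [AddCommGroup M] [Module A M] [AddCommGroup N] [Module A N]
    [AddCommGroup P] [Module A P] {f : M →ₗ[A] N} {g : N →ₗ[A] P} (h : Function.Exact f g) {a b : A}
    (ha : ∀ m, a • f m = 0) (hb : ∀ n, b • g n = 0) : a * b ∈ Module.annihilator A N :=
  Module.mem_annihilator.2 fun n => by
    obtain ⟨m, hm⟩ := (h (b • n)).1 (by rw [map_smul]; exact hb n)
    rw [mul_smul, ← hm, ha]

variable [IsNoetherianRing A]

/-- If `H T (W[i])` is finite for negative `i` then the part of `H T W` killed by an ideal supported in `T` is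
finite. -/
theorem finite_torsion (I : Ideal A) : ∀ (W : Dual.D A) (a : ℤ),
    (∀ j : ℤ, j < a → Subsingleton (Dual.HD A W j)) → (∀ j : ℤ, Module.Finite A (Dual.HD A W j)) →
    (∀ j : ℤ, I ≤ (Module.annihilator A (Dual.HD A W j)).radical) →
    (∀ i : ℤ, i < 0 → Module.Finite A (H T (W⟦i⟧))) →
    ∀ J : Ideal A, PrimeSpectrum.zeroLocus (J : Set A) ⊆ T →
      Module.Finite A (Submodule.torsionBySet A (H T W) (J : Set A)) := by
  induction I using WellFoundedGT.induction with
  | _ I ih =>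
  intro W a hlow hfin hsupp hneg J hJ
  by_cases hJI : J ≤ I.radical
  · haveI : Module.Finite A (H T W) := finite_of_supported T hlow hfin fun j => by
      rw [← PrimeSpectrum.zeroLocus_radical]
      exact subset_trans (PrimeSpectrum.zeroLocus_anti_mono_ideal
        (hJI.trans (Ideal.radical_le_radical_iff.2 (hsupp j)))) hJ
    haveI := isNoetherian_of_isNoetherianRing_of_finite A (H T W)
    infer_instance
  obtain ⟨f, hfJ, hfI⟩ := SetLike.not_le_iff_exists.1 hJI
  obtain ⟨C, g, h, hΔ⟩ := distinguished_cocone_triangle (f • 𝟙 W)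
  let Δ₁ := (Triangle.mk (f • 𝟙 W) g h).invRotate
  have hΔ₁ : Δ₁ ∈ distTriang _ := inv_rot_of_distTriang _ hΔ
  let Δ₂ := Δ₁.invRotate
  have hΔ₂ : Δ₂ ∈ distTriang _ := inv_rot_of_distTriang _ hΔ₁
  -- `Δ₂ : W[-1] → C[-1] → W`
  let W' : Dual.D A := Δ₁.obj₁
  have hex : ∀ j : ℤ, Function.Exact (PCoh.δl Δ₁ (j - 1) j (sub_add_cancel j 1)) (PCoh.hm j Δ₁.mor₁) :=
    fun j => PCoh.ex₁ Δ₁ hΔ₁ (j - 1) j (sub_add_cancel j 1)
  have hW'fin : ∀ j : ℤ, Module.Finite A (Dual.HD A W' j) := fun j => by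
    haveI := hfin j
    haveI : Module.Finite A (Dual.HD A Δ₁.obj₃ (j - 1)) := hfin (j - 1)
    haveI := isNoetherian_of_isNoetherianRing_of_finite A (Dual.HD A Δ₁.obj₃ (j - 1))
    haveI : IsNoetherian A (Dual.HD A Δ₁.obj₂ j) := isNoetherian_of_isNoetherianRing_of_finite A (Dual.HD A W j)
    haveI : IsNoetherian A (Dual.HD A W' j) := isNoetherian_of_range_eq_ker (PCoh.δl Δ₁ (j - 1) j (sub_add_cancel j 1))
      (PCoh.hm j Δ₁.mor₁) (LinearMap.exact_iff.1 (hex j)).symm
    exact Module.IsNoetherian.finite A _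
  have hW'low : ∀ j : ℤ, j < a → Subsingleton (Dual.HD A W' j) := fun j hj =>
    PCoh.subsingleton₁ Δ₁ hΔ₁ (j - 1) j (sub_add_cancel j 1) (hlow (j - 1) (by omega)) (hlow j hj)
  have hW'supp : ∀ j : ℤ, I ⊔ Ideal.span {f} ≤ (Module.annihilator A (Dual.HD A W' j)).radical := fun j => by
    refine sup_le (fun b hb => ?_) ((Ideal.span_singleton_le_iff_mem _).2 ⟨2, ?_⟩)
    · obtain ⟨m, hm⟩ := hsupp (j - 1) hb
      obtain ⟨n, hn⟩ := hsupp j hb
      refine ⟨m + n, ?_⟩
      rw [pow_add]
      refine mul_mem_annihilator (hex j) (fun z => ?_) (fun z => Module.mem_annihilator.1 hn _)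
      rw [← map_smul, show b ^ m • z = 0 from Module.mem_annihilator.1 hm _, map_zero]
    · rw [pow_two]
      refine mul_mem_annihilator (hex j) (fun z => ?_) (fun z => ?_)
      · -- `f` kills the cokernel of multiplication by `f`
        have h0 := ((PCoh.ex₃ Δ₁ hΔ₁ (j - 1) j (sub_add_cancel j 1)) (PCoh.hm (j - 1) Δ₁.mor₂ z)).2 ⟨z, rfl⟩
        rw [← map_smul]
        refine Eq.trans (congrArg _ ?_) h0
        show f • z = PCoh.hm (j - 1) (f • 𝟙 W) z
        rw [DComplete.hm_smul, PCoh.hm_id]; rfl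
      · show f • PCoh.hm j Δ₁.mor₁ z = 0
        have hz : Δ₁.mor₁ ≫ (f • 𝟙 W) = 0 := comp_distTriang_mor_zero₁₂ _ hΔ₁
        have := congrArg (fun φ => PCoh.hm j φ z) hz
        have h00 : ∀ (X Y : Dual.D A) (z : Dual.HD A X j), PCoh.hm j (0 : X ⟶ Y) z = 0 := fun X Y z => by
          rw [show PCoh.hm j (0 : X ⟶ Y) = 0 by rw [PCoh.hm, Functor.map_zero]; rfl]; rfl
        refine Eq.trans ?_ (this.trans (h00 _ _ z))
        refine Eq.symm ((PCoh.hm_comp_apply j Δ₁.mor₁ (f • 𝟙 W) z).trans ?_)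
        refine (DComplete.hm_smul j f (𝟙 W) _).trans ?_
        rw [PCoh.hm_id]; rfl
  have hlt : I < I ⊔ Ideal.span {f} := lt_of_le_of_ne le_sup_left fun hI => hfI
    (Ideal.le_radical (hI ▸ Ideal.mem_sup_right (Ideal.mem_span_singleton_self f)))
  have hneg' : ∀ i : ℤ, i < 0 → Module.Finite A (H T (W'⟦i⟧)) := fun i hi => by
    haveI := hneg (-1 + i) (by omega)
    exact finite_H₂ T _ (Triangle.shift_distinguished _ hΔ₂ i)
      (Module.Finite.equiv (hEquiv T ((shiftFunctorAdd' (Dual.D A) (-1) i (-1 + i) rfl).app W)))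
      (hneg i hi)
  haveI hR : Module.Finite A (H T Δ₂.obj₁) := hneg (-1) (by omega)
  let R : Submodule A (H T W') := LinearMap.range (hmap T Δ₂.mor₁)
  obtain ⟨J', hJ', hk⟩ := exists_kill_fg T (F := R) (Module.Finite.iff_fg.1 (Module.Finite.range _))
  haveI := ih _ hlt W' a hW'low hW'fin hW'supp hneg' (J' * J) (zeroLocus_mul_subset T hJ' hJ)
  have hle : Submodule.torsionBySet A (H T W) (J : Set A) ≤
      Submodule.map (hmap T Δ₁.mor₁) (Submodule.torsionBySet A (H T W') ((J' * J : Ideal A) : Set A)) := by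
    intro x hx
    have hxJ : ∀ b ∈ J, b • x = 0 := fun b hb => (Submodule.mem_torsionBySet_iff _ _).1 hx ⟨b, hb⟩
    obtain ⟨y, rfl⟩ := (exact_hmap T Δ₁ hΔ₁ x).1 (by
      show hmap T (f • 𝟙 W) x = 0
      rw [hmap_smul, hmap_id]; exact hxJ f hfJ)
    refine ⟨y, (Submodule.mem_torsionBySet_iff _ _).2 fun ⟨c, hc⟩ => ?_, rfl⟩
    show c • y = 0
    refine Submodule.mul_induction_on hc (fun a ha b hb => ?_) (fun u v hu hv => by rw [add_smul, hu, hv, add_zero])
    rw [mul_smul]
    exact hk a ha _ ((exact_hmap T Δ₂ hΔ₂ (b • y)).1 (by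
      show hmap T Δ₁.mor₁ (b • y) = 0
      exact (map_smul (hmap T Δ₁.mor₁) b y).trans (hxJ b hb)))
  exact Module.Finite.of_fg (Submodule.FG.of_le (Submodule.FG.map _ (Module.Finite.iff_fg.1 inferInstance)) hle)

/-- All `H^i_T` below a bound are finite as soon as one ideal supported in `T` kills them. -/
theorem finite_iff_kill {K : Dual.D A} {a : ℤ} (hlow : ∀ j : ℤ, j < a → Subsingleton (Dual.HD A K j))
    (hfin : ∀ j : ℤ, Module.Finite A (Dual.HD A K j)) (n : ℤ) :
    (∀ i : ℤ, i ≤ n → Module.Finite A (H T (K⟦i⟧))) ↔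
      ∃ J : Ideal A, PrimeSpectrum.zeroLocus (J : Set A) ⊆ T ∧
        ∀ i : ℤ, i ≤ n → ∀ x ∈ J, ∀ y : H T (K⟦i⟧), x • y = 0 := by
  have hsmall : ∀ i : ℤ, i < a → Subsingleton (H T (K⟦i⟧)) := fun i hi => subsingleton_of_pos T fun j hj =>
    haveI := hlow (i + j) (by omega)
    (PCoh.hShift K i j (i + j) rfl).injective.subsingleton
  constructor
  · intro h
    have key : ∀ d : ℕ, ∃ J : Ideal A, PrimeSpectrum.zeroLocus (J : Set A) ⊆ T ∧
        ∀ i : ℤ, i ≤ n → i < a + d → ∀ x ∈ J, ∀ y : H T (K⟦i⟧), x • y = 0 := by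
      intro d
      induction d with
      | zero => exact ⟨⊤, zeroLocus_top_subset T, fun i _ hi x _ y =>
          @Subsingleton.elim _ (hsmall i (by omega)) _ _⟩
      | succ d ihd =>
        obtain ⟨J, hJ, hk⟩ := ihd
        by_cases hd : a + d ≤ n
        · obtain ⟨J', hJ', hk'⟩ := exists_kill_of_finite T (h (a + d) hd)
          refine ⟨J * J', zeroLocus_mul_subset T hJ hJ', fun i hi hi' x hx y => ?_⟩
          rcases lt_or_eq_of_le (show i ≤ a + d by omega) with hlt | rfl
          · exact hk i hi hlt x (Ideal.mul_le_left (I := J) (J := J') hx) y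
          · exact hk' x (Ideal.mul_le_right (I := J) (J := J') hx) y
        · exact ⟨J, hJ, fun i hi _ x hx y => hk i hi (by omega) x hx y⟩
    obtain ⟨J, hJ, hk⟩ := key (n + 1 - a).toNat
    exact ⟨J, hJ, fun i hi => hk i hi (by omega)⟩
  · rintro ⟨J, hJ, hk⟩
    have key : ∀ d : ℕ, ∀ i : ℤ, i ≤ n → i < a + d → Module.Finite A (H T (K⟦i⟧)) := by
      intro d
      induction d with
      | zero => exact fun i _ hi => haveI := hsmall i (by omega); inferInstance
      | succ d ihd =>
        intro i hi hi'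
        rcases lt_or_eq_of_le (show i ≤ a + d by omega) with hlt | rfl
        · exact ihd i hi hlt
        · haveI := finite_torsion T ⊥ (K⟦(a + d : ℤ)⟧) (-(d : ℤ))
            (fun j hj => haveI := hlow (a + d + j) (by omega)
              (PCoh.hShift K (a + d) j (a + d + j) rfl).injective.subsingleton)
            (fun j => haveI := hfin (a + d + j)
              Module.Finite.equiv (PCoh.hShift K (a + d) j (a + d + j) rfl).symm)
            (fun j => bot_le)
            (fun k hk' => haveI := ihd (a + d + k) (by omega) (by omega)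
              Module.Finite.equiv (hEquiv T ((shiftFunctorAdd' (Dual.D A) (a + d) k (a + d + k) rfl).app K)))
            J hJ
          exact Module.Finite.of_surjective
            (Submodule.torsionBySet A (H T (K⟦(a + d : ℤ)⟧)) (J : Set A)).subtype
            fun y => ⟨⟨y, (Submodule.mem_torsionBySet_iff _ _).2 fun x => hk _ hi x x.2 y⟩, rfl⟩
    exact fun i hi => key (n + 1 - a).toNat i hi (by omega)

end Groth.Agent.H4DR.HT
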