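import Groth.Agent.H4DR.HT.Duality
import Groth.Agent.H4DR.HT.Finite
import Mathlib.RingTheory.Ideal.AssociatedPrime.Localization

/-!
# Annihilation of local cohomology over a ring with a dualizing complex
-/

set_option autoImplicit false
set_option linter.style.haveILetI false
set_option linter.unusedVariables false

universe u v

open CategoryTheory CategoryTheory.Limits Pretriangulated TensorProduct
open Groth.Agent.H4DR.Ext (Ex)
open Groth.Agent.H4DR.FlatBC (F FD)
open Groth.Agent.H4DR.Dualizing (Loc loc deg)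

attribute [local instance] HasDerivedCategory.standard

namespace Groth.Agent.H4DR.HT

variable {A : Type u} [CommRing A]

/-- Below the cut a truncation does not change `colim Hom(A/J, -)`. -/
theorem nonempty_trunc_H (T : Set (PrimeSpectrum A)) (Δ : Triangle (Dual.D A)) (hΔ : Δ ∈ distTriang (Dual.D A))
    {n : ℤ} (h3 : ∀ j, j < n → Subsingleton (Dual.HD A Δ.obj₃ j)) {i : ℤ} (hi : i < n) :
    Nonempty (H T (Δ.obj₁⟦i⟧) ≃ₗ[A] H T (Δ.obj₂⟦i⟧)) := by
  let Δ' := (Triangle.shiftFunctor (Dual.D A) i).obj Δ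
  have hΔ' : Δ' ∈ distTriang (Dual.D A) := Triangle.shift_distinguished Δ hΔ i
  haveI h3' : Subsingleton (H T Δ'.obj₃) :=
    subsingleton_of_pos T fun j hj => FlatBC.subsingleton_HD_shift (c := n) h3 i j (by omega)
  haveI h0' : Subsingleton (H T Δ'.invRotate.obj₁) :=
    subsingleton_of_pos T fun j hj => FlatBC.subsingleton_HD_shift (c := n - i)
      (fun l hl => FlatBC.subsingleton_HD_shift (c := n) h3 i l hl) (-1) j (by omega)
  refine ⟨LinearEquiv.ofBijective (hmap T Δ'.mor₁) ⟨(injective_iff_map_eq_zero _).2 fun z hz => ?_, fun z => ?_⟩⟩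
  · obtain ⟨w, rfl⟩ := (exact_hmap T Δ'.invRotate (inv_rot_of_distTriang _ hΔ') z).1 hz
    exact (congrArg _ (Subsingleton.elim w 0)).trans (map_zero _)
  · exact (exact_hmap T Δ' hΔ' z).1 (Subsingleton.elim _ _)

variable [IsNoetherianRing A]

/-- A bounded approximation which agrees in the relevant range. -/
theorem exists_bounded {K : Dual.D A} {a : ℤ} (hKa : ∀ i : ℤ, i < a → Subsingleton (Dual.HD A K i))
    (hK : ∀ i : ℤ, Module.Finite A (Dual.HD A K i)) (s : ℤ) :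
    ∃ (K' : Dual.D A) (m m' : ℤ), (∀ j, j < m ∨ m' < j → Subsingleton (Dual.HD A K' j)) ∧
      (∀ j, Module.Finite A (Dual.HD A K' j)) ∧
      (∀ (T : Set (PrimeSpectrum A)) (i : ℤ), i ≤ s → Nonempty (H T (K'⟦i⟧) ≃ₗ[A] H T (K⟦i⟧))) ∧
      ∀ (p : PrimeSpectrum A) (i : ℤ), i ≤ s →
        (Subsingleton (LD.H (IsLocalRing.maximalIdeal (Loc p)) ((loc K' p)⟦i⟧)) ↔
          Subsingleton (LD.H (IsLocalRing.maximalIdeal (Loc p)) ((loc K p)⟦i⟧))) := by
  obtain ⟨Δ, hΔ, rfl, h1, h3, hb1, -⟩ := Ext.exists_trunc K (s + 1)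
  refine ⟨Δ.obj₁, a, s, ?_, fun j => ?_, fun T i hi => nonempty_trunc_H T Δ hΔ h3 (by omega), fun p i hi => ?_⟩
  · rintro j (hj | hj)
    · by_cases hj' : j < s + 1
      · haveI := hKa j hj
        exact (hb1 j hj').1.subsingleton
      · exact h1 j (by omega)
    · exact h1 j (by omega)
  · by_cases hj : j < s + 1
    · haveI := hK j
      exact Module.Finite.equiv (LinearEquiv.ofBijective _ (hb1 j hj)).symm
    · haveI := h1 j (by omega)
      infer_instance
  · haveI := IsLocalization.flat (Loc p) p.asIdeal.primeCompl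
    haveI : IsNoetherianRing (Loc p) := IsLocalization.isNoetherianRing p.asIdeal.primeCompl (Loc p) ‹_›
    obtain ⟨e⟩ := nonempty_trunc_H (PrimeSpectrum.zeroLocus (IsLocalRing.maximalIdeal (Loc p) : Set (Loc p)))
      ((FD A (Loc p)).mapTriangle.obj Δ) ((FD A (Loc p)).map_distinguished Δ hΔ)
      (fun j hj => FlatBC.subsingleton_HD_FD (h3 j hj)) (show i < s + 1 by omega)
    exact (((powEquiv _ _).trans e).trans (powEquiv _ _).symm).toEquiv.subsingleton_congr

variable {ω : Dual.D A} (hω : Dual.IsDualizing A ω)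
include hω

theorem exists_coheight_bound : ∃ c : ℕ, ∀ q : PrimeSpectrum A, Order.coheight q < (c : ℕ∞) := by
  obtain ⟨a, b, hab⟩ := hω.finite_injective_dimension
  refine ⟨(b - a).toNat + 1, fun q => ?_⟩
  have h : Order.coheight q ≤ ((b - a).toNat : ℕ∞) := Order.coheight_le fun t ht => by
    have h1 := Dualizing.length_le hω t
    have h2 := Dualizing.deg_mem_range hω t.head hab
    have h3 := Dualizing.deg_mem_range hω t.last hab
    exact Nat.cast_le.2 (by omega)
  exact h.trans_lt (Nat.cast_lt.2 (Nat.lt_succ_self _))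

/-- The pair `p ≤ q` with `q ∈ T` forbids annihilation up to degree `s`. -/
def IsBad (T : Set (PrimeSpectrum A)) (s : ℤ) (K : Dual.D A) (p q : PrimeSpectrum A) : Prop :=
  p ≤ q ∧ q ∈ T ∧ ∃ i : ℤ, i ≤ s - (deg hω q - deg hω p) ∧
    ¬ Subsingleton (LD.H (IsLocalRing.maximalIdeal (Loc p)) ((loc K p)⟦i⟧))

/-- An annihilator whose zero locus consists of specializations of bad primes. -/
theorem exists_kill_bad (T : Set (PrimeSpectrum A)) (s : ℤ) {K : Dual.D A} {a : ℤ}
    (hKa : ∀ i : ℤ, i < a → Subsingleton (Dual.HD A K i)) (hK : ∀ i : ℤ, Module.Finite A (Dual.HD A K i)) :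
    ∃ J : Ideal A, (∀ i : ℤ, i ≤ s → ∀ x ∈ J, ∀ y : H T (K⟦i⟧), x • y = 0) ∧
      ∀ r : PrimeSpectrum A, J ≤ r.asIdeal → ∃ p ≤ r, ∃ q, IsBad hω T s K p q := by
  classical
  obtain ⟨K', m, m', hb, hf, hT, hL⟩ := exists_bounded hKa hK s
  obtain ⟨j₀, j₁, hfin, hzero⟩ := exists_range hω hb hf
  obtain ⟨c, hc⟩ := exists_coheight_bound hω
  let N : (j : ℤ) → Submodule A (Ex K' ω j) := fun j =>
    ⨅ q ∈ {q : PrimeSpectrum A | q ∈ T ∧ deg hω q - s ≤ j},
      LinearMap.ker (LocalizedModule.mkLinearMap q.asIdeal.primeCompl (Ex K' ω j))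
  let 𝔞 : ℤ → Ideal A := fun j => Module.annihilator A (Ex K' ω j ⧸ N j)
  refine ⟨(∏ j ∈ Finset.Icc j₀ j₁, 𝔞 j) ^ c, fun i hi x hx y => ?_, fun r hr => ?_⟩
  · obtain ⟨e⟩ := hT T i hi
    refine e.symm.injective ?_
    rw [map_smul, map_zero]
    refine kill_of_local (∏ j ∈ Finset.Icc j₀ j₁, 𝔞 j) (fun q hq b hb' z => ?_) c T subset_rfl (fun q _ => hc q)
      x hx _
    refine (kill_local_iff hω hb hf q i b).2 (fun w => ?_) z
    by_cases hj : deg hω q - i ∈ Finset.Icc j₀ j₁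
    · have hb'' : b ∈ 𝔞 (deg hω q - i) :=
        (Ideal.prod_le_inf.trans (Finset.inf_le (f := 𝔞) hj)) hb'
      have h1 : b • w ∈ N (deg hω q - i) := (Submodule.Quotient.mk_eq_zero _).1
        ((Submodule.Quotient.mk_smul _ b w).trans (Module.mem_annihilator.1 hb'' _))
      have h2 : b • w ∈ LinearMap.ker (LocalizedModule.mkLinearMap q.asIdeal.primeCompl (Ex K' ω (deg hω q - i))) :=
        (Submodule.mem_iInf _).1 ((Submodule.mem_iInf _).1 h1 q) ⟨hq, by omega⟩
      obtain ⟨t, ht, htw⟩ := LocalizedModule.mem_ker_mkLinearMap_iff.1 h2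
      exact ⟨t, ht, htw⟩
    · refine ⟨1, q.2.one_notMem, ?_⟩
      rw [Finset.mem_Icc] at hj
      exact @Subsingleton.elim _ (hzero _ (by omega)) _ _
  · obtain ⟨j, -, hjr⟩ := (Ideal.IsPrime.prod_le r.2).1 (r.2.le_of_pow_le hr)
    haveI := hfin j
    obtain ⟨P, hP, hPr⟩ := Ideal.exists_minimalPrimes_le hjr
    have hass := Module.associatedPrimes.minimalPrimes_annihilator_subset_associatedPrimes A _ hP
    obtain ⟨hPp, x, hx⟩ := isAssociatedPrime_iff.1 hass
    obtain ⟨x, rfl⟩ := Submodule.Quotient.mk_surjective _ x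
    have hPeq : ∀ t, t ∈ P ↔ t • x ∈ N j := fun t => by
      rw [hx, Submodule.mem_colon_singleton, Submodule.mem_bot, ← Submodule.Quotient.mk_smul,
        Submodule.Quotient.mk_eq_zero]
    have hxN : x ∉ N j := fun h => hPp.one_notMem ((hPeq 1).2 (by rwa [one_smul]))
    obtain ⟨q, hq, hxq⟩ : ∃ q : PrimeSpectrum A, (q ∈ T ∧ deg hω q - s ≤ j) ∧
        x ∉ LinearMap.ker (LocalizedModule.mkLinearMap q.asIdeal.primeCompl (Ex K' ω j)) := by
      by_contra hcon
      push Not at hcon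
      exact hxN ((Submodule.mem_iInf _).2 fun q => (Submodule.mem_iInf _).2 fun hq => hcon q hq)
    let p : PrimeSpectrum A := ⟨P, hPp⟩
    have hpq : p ≤ q := fun t ht => by
      by_contra htq
      have h2 : t • x ∈ LinearMap.ker (LocalizedModule.mkLinearMap q.asIdeal.primeCompl (Ex K' ω j)) :=
        (Submodule.mem_iInf _).1 ((Submodule.mem_iInf _).1 ((hPeq t).1 ht) q) hq
      obtain ⟨u, hu, hux⟩ := LocalizedModule.mem_ker_mkLinearMap_iff.1 h2
      exact hxq (LocalizedModule.mem_ker_mkLinearMap_iff.2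
        ⟨u * t, mul_mem hu htq, by rw [mul_smul]; exact hux⟩)
    have hsupp : p ∈ Module.support A (Ex K' ω j) := Module.mem_support_iff'.2
      ⟨x, fun t ht htx => ht ((hPeq t).2 (htx ▸ (N j).zero_mem))⟩
    refine ⟨p, hPr, q, hpq, hq.1, deg hω p - j, by omega, fun hss => ?_⟩
    have hle : deg hω p ≤ deg hω q := by
      obtain ⟨d, -, hd, -⟩ := Dualizing.exists_dim hω hpq
      omega
    rw [← hL p (deg hω p - j) (by omega), subsingleton_LD_iff hω hb hf p, sub_sub_cancel] at hss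
    exact hss hsupp

/-- Annihilation by an ideal forbids bad primes off its zero locus. -/
theorem not_isBad_of_kill {T : Set (PrimeSpectrum A)} (hTs : StableUnderSpecialization T) {s : ℤ}
    {K : Dual.D A} {a : ℤ} (hKa : ∀ i : ℤ, i < a → Subsingleton (Dual.HD A K i))
    (hK : ∀ i : ℤ, Module.Finite A (Dual.HD A K i)) {J : Ideal A}
    (hJ : ∀ i : ℤ, i ≤ s → ∀ x ∈ J, ∀ y : H T (K⟦i⟧), x • y = 0) {p q : PrimeSpectrum A}
    (hp : ¬ J ≤ p.asIdeal) : ¬ IsBad hω T s K p q := by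
  rintro ⟨hpq, hqT, i, hi, hns⟩
  obtain ⟨d, -, hd, -⟩ := Dualizing.exists_dim hω hpq
  obtain ⟨K', m, m', hb, hf, hT, hL⟩ := exists_bounded hKa hK s
  rw [← hL p i (by omega), subsingleton_LD_iff hω hb hf p] at hns
  refine hns (Module.notMem_support_iff'.2 fun x => ?_)
  obtain ⟨b, hbJ, hbp⟩ := SetLike.not_le_iff_exists.1 hp
  obtain ⟨fs, hfs⟩ : ∃ fs : List A, Ideal.span {f | f ∈ fs} = q.asIdeal := by
    obtain ⟨S, hS⟩ := (IsNoetherian.noetherian q.asIdeal : q.asIdeal.FG)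
    exact ⟨S.toList, by rw [← hS]; simp⟩
  have hset : T ∩ PrimeSpectrum.zeroLocus {f | f ∈ fs} = PrimeSpectrum.zeroLocus (q.asIdeal : Set A) := by
    rw [← hfs, PrimeSpectrum.zeroLocus_span]
    refine Set.inter_eq_right.2 fun r hr => hTs ((PrimeSpectrum.le_iff_specializes q r).1 ?_) hqT
    show q.asIdeal ≤ r.asIdeal
    rw [← hfs, Ideal.span_le]
    exact hr
  let i₀ := deg hω q - deg hω p + i
  have hkill : ∀ y : H (PrimeSpectrum.zeroLocus (q.asIdeal : Set A)) (K'⟦i₀⟧),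
      b ^ (2 ^ fs.length * 1) • y = 0 := by
    rw [← hset]
    intro y
    refine (hEquiv _ ((shiftFunctorAdd' (Dual.D A) i₀ 0 i₀ (add_zero _)).app K')).injective ?_
    rw [map_smul, map_zero]
    refine kill_inter J fs (K'⟦i₀⟧) 1 (fun l hl x hx z => ?_) 0 le_rfl _ (Ideal.pow_mem_pow hbJ _) _
    obtain ⟨e⟩ := hT T (i₀ + l) (by omega)
    refine ((hEquiv _ ((shiftFunctorAdd' (Dual.D A) i₀ l (i₀ + l) rfl).app K').symm).trans e).injective ?_
    rw [map_smul, map_zero]
    exact hJ _ (by omega) x (by rwa [pow_one] at hx) _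
  have h1 := (kill_local_iff hω hb hf q i₀ _).1 fun y => ⟨1, q.2.one_notMem, by rw [hkill y, smul_zero]⟩
  rw [show deg hω q - i₀ = deg hω p - i by omega] at h1
  obtain ⟨t, ht, htx⟩ := h1 x
  exact ⟨t * b ^ (2 ^ fs.length * 1), p.2.mul_notMem (fun h => ht (hpq h)) (fun h => hbp (p.2.mem_of_pow_mem _ h)),
    by rwa [mul_smul]⟩

/-- The criterion. -/
theorem exists_kill_iff {T T' : Set (PrimeSpectrum A)} (hTs : StableUnderSpecialization T)
    (hT' : StableUnderSpecialization T') (s : ℤ) {K : Dual.D A} {a : ℤ}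
    (hKa : ∀ i : ℤ, i < a → Subsingleton (Dual.HD A K i)) (hK : ∀ i : ℤ, Module.Finite A (Dual.HD A K i)) :
    (∃ J : Ideal A, PrimeSpectrum.zeroLocus (J : Set A) ⊆ T' ∧
        ∀ i : ℤ, i ≤ s → ∀ x ∈ J, ∀ y : H T (K⟦i⟧), x • y = 0) ↔
      ∀ p q : PrimeSpectrum A, p ∉ T' → ¬ IsBad hω T s K p q := by
  refine ⟨fun ⟨J, hJ, hk⟩ p q hp => not_isBad_of_kill hω hTs hKa hK hk fun h => hp (hJ h), fun h => ?_⟩
  obtain ⟨J, hk, hJ⟩ := exists_kill_bad hω T s hKa hK
  refine ⟨J, fun r hr => ?_, hk⟩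
  obtain ⟨p, hpr, q, hbad⟩ := hJ r hr
  exact hT' ((PrimeSpectrum.le_iff_specializes p r).1 hpr) (by_contra fun hp => h p q hp hbad)

theorem exists_series {p q : PrimeSpectrum A} (hpq : p ≤ q) :
    ∃ t : LTSeries (PrimeSpectrum A), t.head = p ∧ t.last = q ∧ (t.length : ℤ) = deg hω q - deg hω p := by
  obtain ⟨a, b, hab⟩ := hω.finite_injective_dimension
  suffices ∀ (d : ℕ) (q : PrimeSpectrum A), p ≤ q → deg hω q - deg hω p = d →
      ∃ t : LTSeries (PrimeSpectrum A), t.head = p ∧ t.last = q ∧ t.length = d by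
    obtain ⟨d, -, hd, -⟩ := Dualizing.exists_dim hω hpq
    obtain ⟨t, h1, h2, h3⟩ := this d q hpq (by omega)
    exact ⟨t, h1, h2, by omega⟩
  intro d
  induction d with
  | zero =>
    intro q hq hd
    obtain rfl : p = q := eq_of_le_of_not_lt hq fun hlt => by
      have := Dualizing.deg_lt hω hlt
      omega
    exact ⟨RelSeries.singleton _ p, rfl, rfl, rfl⟩
  | succ d ih =>
    intro q hq hd
    have hlt : p < q := lt_of_le_of_ne hq fun h => by rw [h] at hd; omega
    obtain ⟨r, ⟨hpr, hrq⟩, hmax⟩ : ∃ r ∈ Set.Ico p q, ∀ r' ∈ Set.Ico p q, deg hω r' ≤ deg hω r := by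
      obtain ⟨g, ⟨r, hr, hg⟩, hmax⟩ := Int.exists_greatest_of_bdd (P := fun g => ∃ r ∈ Set.Ico p q, deg hω r = g)
        ⟨deg hω q, fun g ⟨r, hr, hg⟩ => hg ▸ (Dualizing.deg_lt hω hr.2).le⟩ ⟨_, p, ⟨le_rfl, hlt⟩, rfl⟩
      exact ⟨r, hr, fun r' hr' => hg ▸ hmax _ ⟨r', hr', rfl⟩⟩
    have hcov : r ⋖ q := ⟨hrq, fun x h1 h2 => not_lt.2 (hmax x ⟨hpr.trans h1.le, h2⟩) (Dualizing.deg_lt hω h1)⟩
    have := Dualizing.deg_covBy hω hcov
    obtain ⟨t, h1, h2, h3⟩ := ih r hpr (by omega)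
    exact ⟨t.snoc q (h2 ▸ hrq), (RelSeries.head_snoc _ _ _).trans h1, RelSeries.last_snoc _ _ _, by simp [h3]⟩

theorem height_Ici {p q : PrimeSpectrum A} (hpq : p ≤ q) :
    Order.height (⟨q, hpq⟩ : Set.Ici p) = ((deg hω q - deg hω p).toNat : ℕ∞) := by
  obtain ⟨t, h1, h2, h3⟩ := exists_series hω hpq
  refine le_antisymm (Order.height_le fun u hu => Nat.cast_le.2 ?_) ?_
  · have hl := Dualizing.length_le hω (u.map Subtype.val fun _ _ h => h)
    rw [LTSeries.last_map, hu, LTSeries.head_map] at hl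
    simp only [LTSeries.map_length] at hl
    obtain ⟨d, -, hd, -⟩ := Dualizing.exists_dim hω (show p ≤ u.head.1 from u.head.2)
    omega
  · have hmem : ∀ i, t i ∈ Set.Ici p := fun i => h1 ▸ t.head_le i
    let u : LTSeries (Set.Ici p) := LTSeries.mk t.length (fun i => ⟨t i, hmem i⟩) fun i j hij => t.strictMono hij
    rw [show (deg hω q - deg hω p).toNat = u.length by show _ = t.length; omega]
    exact Order.length_le_height (le_of_eq (Subtype.ext h2))

theorem krullDim_Icc {p q : PrimeSpectrum A} (hpq : p ≤ q) :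
    Order.krullDim (Set.Icc p q) = (((deg hω q - deg hω p).toNat : ℕ∞) : WithBot ℕ∞) := by
  obtain ⟨t, h1, h2, h3⟩ := exists_series hω hpq
  refine le_antisymm (iSup_le fun u => ?_) ?_
  · have hl := Dualizing.length_le hω (u.map Subtype.val fun _ _ h => h)
    rw [LTSeries.last_map, LTSeries.head_map] at hl
    simp only [LTSeries.map_length] at hl
    obtain ⟨d, -, hd, -⟩ := Dualizing.exists_dim hω (show p ≤ u.head.1 from u.head.2.1)
    obtain ⟨d', -, hd', -⟩ := Dualizing.exists_dim hω (show u.last.1 ≤ q from u.last.2.2)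
    exact WithBot.coe_le_coe.2 (Nat.cast_le.2 (by omega))
  · have hmem : ∀ i, t i ∈ Set.Icc p q := fun i => ⟨h1 ▸ t.head_le i, h2 ▸ t.monotone (Fin.le_last i)⟩
    let u : LTSeries (Set.Icc p q) := LTSeries.mk t.length (fun i => ⟨t i, hmem i⟩) fun i j hij => t.strictMono hij
    rw [show (deg hω q - deg hω p).toNat = u.length by show _ = t.length; omega]
    exact Order.LTSeries.length_le_krullDim u

end Groth.Agent.H4DR.HT
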