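import Groth.Agent.H4DR.HT.Kill
import Groth.Agent.H4DR.LD.Colim
import Groth.Agent.H4DR.Dualizing.Prime
import Mathlib.RingTheory.Localization.BaseChange

/-!
# `colim_J Hom(A/J, W)` over `V(q)` localised at `q`
-/

set_option autoImplicit false
set_option linter.style.haveILetI false
set_option linter.unusedVariables false

universe u v

open CategoryTheory CategoryTheory.Limits Pretriangulated TensorProduct
open Groth.Agent.H4DR.FlatBC (F FD toFₗ)
open Groth.Agent.H4DR.Dualizing (Loc loc)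

attribute [local instance] HasDerivedCategory.standard

namespace Groth.Agent.H4DR.HT

variable {A : Type u} [CommRing A] (q : PrimeSpectrum A)

local instance : Module.Flat A (Loc q) := IsLocalization.flat (Loc q) q.asIdeal.primeCompl

/-- The map of quotient modules. -/
noncomputable abbrev qm {n m : ℕ} (h : n ≤ m) :
    ModuleCat.of A (A ⧸ q.asIdeal ^ m) ⟶ ModuleCat.of A (A ⧸ q.asIdeal ^ n) :=
  ModuleCat.ofHom (Submodule.mapQ (q.asIdeal ^ m) (q.asIdeal ^ n) LinearMap.id (Ideal.pow_le_pow_right h))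

lemma maximalIdeal_pow_eq (n : ℕ) :
    IsLocalRing.maximalIdeal (Loc q) ^ n = (q.asIdeal ^ n).map (algebraMap A (Loc q)) := by
  rw [Ideal.map_pow, Localization.AtPrime.map_eq_maximalIdeal]

/-- `A_q / m^n = A_q ⊗ A/q^n`. -/
noncomputable def qEquiv (n : ℕ) :
    (Loc q ⧸ IsLocalRing.maximalIdeal (Loc q) ^ n) ≃ₗ[Loc q] (F A (Loc q)).obj (ModuleCat.of A (A ⧸ q.asIdeal ^ n)) :=
  (Submodule.quotEquivOfEq _ _ (maximalIdeal_pow_eq q n)).trans
    ((Algebra.TensorProduct.quotIdealMapEquivTensorQuot (Loc q) (q.asIdeal ^ n)).toLinearEquiv.trans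
      (toFₗ (Loc q) (ModuleCat.of A (A ⧸ q.asIdeal ^ n))))

lemma qEquiv_one (n : ℕ) : qEquiv q n (Submodule.Quotient.mk 1) =
    toFₗ (Loc q) (ModuleCat.of A (A ⧸ q.asIdeal ^ n)) (1 ⊗ₜ (Submodule.Quotient.mk 1)) := rfl

lemma qEquiv_natural {n m : ℕ} (h : n ≤ m) :
    ModuleCat.ofHom (Submodule.mapQ (IsLocalRing.maximalIdeal (Loc q) ^ m) (IsLocalRing.maximalIdeal (Loc q) ^ n)
      LinearMap.id (Ideal.pow_le_pow_right h)) ≫ (qEquiv q n).toModuleIso.hom =
      (qEquiv q m).toModuleIso.hom ≫ (F A (Loc q)).map (qm q h) := by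
  refine ModuleCat.hom_ext (Submodule.linearMap_qext _ (LinearMap.ext_ring ?_))
  show qEquiv q n (Submodule.Quotient.mk 1) = ((F A (Loc q)).map (qm q h)).hom (qEquiv q m (Submodule.Quotient.mk 1))
  rw [qEquiv_one, qEquiv_one, FlatBC.F_map_toF]
  rfl

/-- `A_q / m^n` is the base change of `A/q^n`. -/
noncomputable def qIso (n : ℕ) :
    LD.Q (IsLocalRing.maximalIdeal (Loc q)) n ≅ (FD A (Loc q)).obj (Q (q.asIdeal ^ n)) :=
  (DerivedCategory.singleFunctor (ModuleCat.{u} (Loc q)) 0).mapIso (qEquiv q n).toModuleIso ≪≫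
    (((F A (Loc q)).mapDerivedCategorySingleFunctor 0).app (ModuleCat.of A (A ⧸ q.asIdeal ^ n))).symm

theorem qtr_qIso {n m : ℕ} (h : n ≤ m) :
    LD.qtr (IsLocalRing.maximalIdeal (Loc q)) h ≫ (qIso q n).hom =
      (qIso q m).hom ≫ (FD A (Loc q)).map (qtr (Ideal.pow_le_pow_right (I := q.asIdeal) h)) := by
  show (DerivedCategory.singleFunctor (ModuleCat.{u} (Loc q)) 0).map _ ≫
      (DerivedCategory.singleFunctor (ModuleCat.{u} (Loc q)) 0).map _ ≫
        ((F A (Loc q)).mapDerivedCategorySingleFunctor 0).inv.app _ =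
      ((DerivedCategory.singleFunctor (ModuleCat.{u} (Loc q)) 0).map _ ≫
        ((F A (Loc q)).mapDerivedCategorySingleFunctor 0).inv.app _) ≫
        (FD A (Loc q)).map ((DerivedCategory.singleFunctor (ModuleCat.{u} A) 0).map (qm q h))
  rw [← Functor.map_comp_assoc, qEquiv_natural q h, Category.assoc, Functor.map_comp_assoc]
  exact congrArg _ (((F A (Loc q)).mapDerivedCategorySingleFunctor 0).inv.naturality (qm q h))

theorem exists_smul_eq_tmul {N : Type v} [AddCommGroup N] [Module A N] (t : Loc q ⊗[A] N) :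
    ∃ s ∉ q.asIdeal, ∃ x : N, s • t = (1 : Loc q) ⊗ₜ[A] x := by
  haveI : IsLocalizedModule q.asIdeal.primeCompl (TensorProduct.mk A (Loc q) N 1) :=
    (isLocalizedModule_iff_isBaseChange q.asIdeal.primeCompl (Loc q) _).2 (TensorProduct.isBaseChange A N (Loc q))
  obtain ⟨⟨x, s⟩, hs⟩ := IsLocalizedModule.surj q.asIdeal.primeCompl (TensorProduct.mk A (Loc q) N 1) t
  exact ⟨s, s.2, x, hs⟩

theorem exists_smul_eq_zero_of_tmul {N : Type v} [AddCommGroup N] [Module A N] {x : N}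
    (hx : (1 : Loc q) ⊗ₜ[A] x = 0) : ∃ s ∉ q.asIdeal, s • x = 0 := by
  haveI : IsLocalizedModule q.asIdeal.primeCompl (TensorProduct.mk A (Loc q) N 1) :=
    (isLocalizedModule_iff_isBaseChange q.asIdeal.primeCompl (Loc q) _).2 (TensorProduct.isBaseChange A N (Loc q))
  obtain ⟨s, hs⟩ := (IsLocalizedModule.eq_zero_iff q.asIdeal.primeCompl (TensorProduct.mk A (Loc q) N 1)).1 hx
  exact ⟨s, s.2, hs⟩

variable [IsNoetherianRing A] {W : Dual.D A} {b : ℤ} (hb : ∀ j : ℤ, j < b → Subsingleton (Dual.HD A W j))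
include hb

/-- Annihilation at the closed point of `A_q` is annihilation up to elements outside `q`. -/
theorem kill_H_loc_iff (a : A) :
    (∀ y : H (PrimeSpectrum.zeroLocus (q.asIdeal : Set A)) W, ∃ s ∉ q.asIdeal, s • a • y = 0) ↔
      ∀ z : LD.H (IsLocalRing.maximalIdeal (Loc q)) (loc W q), algebraMap A (Loc q) a • z = 0 := by
  constructor
  · intro h z
    obtain ⟨n, u, rfl⟩ := LD.exists_rep _ z
    obtain ⟨t, ht⟩ := (FlatBC.bij_module_of_bounded (B := Loc q) hb (A ⧸ q.asIdeal ^ n)).2 ((qIso q n).inv ≫ u)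
    obtain ⟨s₀, hs₀, x, hx⟩ := exists_smul_eq_tmul q t
    obtain ⟨s, hs, hsy⟩ := h (ι _ W _ (zeroLocus_pow q.asIdeal n) x)
    rw [← map_smul, ← map_smul] at hsy
    obtain ⟨J, hle, hJ, h0⟩ := ι_eq_zero _ hsy
    obtain ⟨m, hm⟩ := exists_pow_le q.asIdeal hJ
    have hnm : n ≤ max m n := le_max_right _ _
    have h1 : qtr (Ideal.pow_le_pow_right (I := q.asIdeal) hnm) ≫ (s • a • x) = 0 := by
      rw [show qtr (Ideal.pow_le_pow_right (I := q.asIdeal) hnm) =
        qtr ((Ideal.pow_le_pow_right (le_max_left m n)).trans hm) ≫ qtr hle from ?_, Category.assoc, h0, comp_zero]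
      refine Eq.trans ?_ (Functor.map_comp _ _ _)
      exact congrArg _ (ModuleCat.hom_ext (Submodule.linearMap_qext _ (LinearMap.ext_ring rfl)))
    have hFx : (FD A (Loc q)).map x = algebraMap A (Loc q) s₀ • ((qIso q n).inv ≫ u) := by
      rw [← ht, ← map_smul, ← one_smul (Loc q) ((FD A (Loc q)).map x), ← FlatBC.β_tmul, ← hx, algebraMap_smul]
    have h2 := congrArg (FD A (Loc q)).map h1
    rw [Functor.map_comp, Functor.map_zero, FlatBC.FD_map_smul, FlatBC.FD_map_smul, hFx] at h2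
    have h3 := congrArg ((qIso q (max m n)).hom ≫ ·) h2
    simp only [comp_zero, Linear.comp_smul] at h3
    rw [← reassoc_of% (qtr_qIso q hnm), Iso.hom_inv_id_assoc] at h3
    have hu : IsUnit (algebraMap A (Loc q) s * algebraMap A (Loc q) s₀) :=
      (IsLocalization.map_units (Loc q) (⟨s, hs⟩ : q.asIdeal.primeCompl)).mul
        (IsLocalization.map_units (Loc q) (⟨s₀, hs₀⟩ : q.asIdeal.primeCompl))
    rw [smul_smul, smul_smul, mul_right_comm, mul_smul, hu.smul_eq_zero] at h3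
    rw [← map_smul, ← LD.ι_qtr _ _ hnm (algebraMap A (Loc q) a • u), Linear.comp_smul, h3, map_zero]
  · intro h y
    obtain ⟨J, hJ, x₀, rfl⟩ := exists_rep _ y
    obtain ⟨n, hn⟩ := exists_pow_le q.asIdeal hJ
    rw [← ι_qtr _ W hJ (zeroLocus_pow q.asIdeal n) hn x₀]
    generalize qtr hn ≫ x₀ = x
    have h0 := h (LD.ι _ _ n ((qIso q n).hom ≫ (FD A (Loc q)).map x))
    rw [← map_smul] at h0
    obtain ⟨m, hnm, h1⟩ := LD.ι_eq_zero _ h0
    rw [← Linear.comp_smul (R := Loc q), ← Category.assoc, qtr_qIso q hnm, Category.assoc] at h1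
    have h2 : (FD A (Loc q)).map (qtr (Ideal.pow_le_pow_right (I := q.asIdeal) hnm) ≫ (a • x)) = 0 := by
      rw [Functor.map_comp, FlatBC.FD_map_smul]
      exact (cancel_epi (qIso q m).hom).1 (h1.trans comp_zero.symm)
    obtain ⟨s, hs, h3⟩ := exists_smul_eq_zero_of_tmul q (N := Q (q.asIdeal ^ m) ⟶ W)
      (x := qtr (Ideal.pow_le_pow_right (I := q.asIdeal) hnm) ≫ (a • x))
      ((FlatBC.bij_module_of_bounded (B := Loc q) hb (A ⧸ q.asIdeal ^ m)).1
        (((FlatBC.β_tmul _ _ _ _).trans ((one_smul _ _).trans h2)).trans (map_zero _).symm))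
    refine ⟨s, hs, ?_⟩
    rw [← map_smul, ← map_smul,
      ← ι_qtr _ W (zeroLocus_pow q.asIdeal n) (zeroLocus_pow q.asIdeal m) (Ideal.pow_le_pow_right hnm),
      Linear.comp_smul, h3, map_zero]

end Groth.Agent.H4DR.HT
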