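import Groth.Agent.H4DR.HT.Basic
import Groth.Agent.H4DR.LD.Applications
import Groth.Agent.H4DR.Ext.Devissage
import Groth.Agent.H4DR.Dualizing.Gorenstein
import Groth.Agent.H4LC.Torsion

/-!
# `colim_J Hom(A/J, W)` for cohomology supported in the subset
-/

set_option autoImplicit false
set_option linter.style.haveILetI false
set_option linter.unusedVariables false

universe u

open CategoryTheory CategoryTheory.Limits Pretriangulated
open Groth.Agent.H4DR.Ext (pre post inM)

attribute [local instance] HasDerivedCategory.standard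

namespace Groth.Agent.H4DR.HT

variable {A : Type u} [CommRing A] (T : Set (PrimeSpectrum A))

/-- An object concentrated in positive degrees contributes nothing. -/
theorem subsingleton_of_pos {W : Dual.D A} (h : ∀ j : ℤ, j < 1 → Subsingleton (Dual.HD A W j)) :
    Subsingleton (H T W) := subsingleton_H T fun J =>
  subsingleton_of_forall_eq 0 fun x => by
    haveI : DerivedCategory.IsGE W 1 := (DerivedCategory.isGE_iff W 1).2 fun j hj =>
      haveI := h j hj
      ModuleCat.isZero_of_subsingleton _
    exact DerivedCategory.TStructure.t.zero x 0 1 (by omega)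

theorem finite_module_zero [IsNoetherianRing A] (N : Type u) [AddCommGroup N] [Module A N] [Module.Finite A N]
    (hN : PrimeSpectrum.zeroLocus (Module.annihilator A N : Set A) ⊆ T) :
    Module.Finite A (H T (Dual.inD A N)) := by
  let J₀ := Module.annihilator A N
  have hsurj : Function.Surjective (ι T (Dual.inD A N) J₀ hN) := fun z => by
    obtain ⟨J, hJ, x, rfl⟩ := exists_rep T z
    obtain ⟨φ, hφ⟩ := (DerivedCategory.singleFunctor (ModuleCat.{u} A) 0).map_surjective
      (X := ModuleCat.of A (A ⧸ J)) (Y := ModuleCat.of A N) x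
    let n₀ : N := φ.hom (Submodule.Quotient.mk 1)
    let ψ : (A ⧸ J₀) →ₗ[A] N := Submodule.liftQ J₀ (LinearMap.toSpanSingleton A N n₀)
      fun a ha => Module.mem_annihilator.1 ha n₀
    refine ⟨inM (L := ModuleCat.of A (A ⧸ J₀)) (M := ModuleCat.of A N) ψ, ?_⟩
    have hJ' := zeroLocus_inf_subset T hJ hN
    rw [← ι_qtr T _ hN hJ' inf_le_right, ← ι_qtr T _ hJ hJ' inf_le_left]
    refine congrArg _ ?_
    rw [← hφ]
    show inM _ ≫ inM _ = inM _ ≫ _
    rw [inM, ← Functor.map_comp, ← Functor.map_comp]
    refine congrArg _ (ModuleCat.hom_ext (Submodule.linearMap_qext _ (LinearMap.ext_ring ?_)))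
    show LinearMap.toSpanSingleton A N n₀ 1 = φ.hom (Submodule.Quotient.mk 1)
    simp [n₀]
  haveI : Module.Finite A (Dual.HD A (Dual.inD A N) 0) :=
    Module.Finite.equiv (DComplete.e0 (ModuleCat.of A N)).symm
  haveI : ∀ j : ℤ, Module.Finite A (Dual.HD A (Dual.inD A N) j) := fun j => by
    by_cases hj : j = 0
    · subst hj; infer_instance
    · haveI := PCoh.subsingleton_HD_inD (ModuleCat.of A N) _ hj
      infer_instance
  haveI : Module.Finite A (Q J₀ ⟶ Dual.inD A N) := by
    have h := Ext.finite_ex_module_of_low (L := Dual.inD A N) (a := 0) inferInstance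
      (fun M _ _ i hi => Dualizing.subsingleton_ex_neg M N hi) 1 (A ⧸ J₀) 0 (by omega)
    exact Module.Finite.equiv (Ext.postIso (Q J₀) ((shiftFunctorZero (Dual.D A) ℤ).app (Dual.inD A N)))
  exact Module.Finite.of_surjective _ hsurj

theorem subsingleton_module_pos [IsNoetherianRing A] (N : Type u) [AddCommGroup N] [Module A N]
    (hN : PrimeSpectrum.zeroLocus (Module.annihilator A N : Set A) ⊆ T) (i : ℕ) (hi : 0 < i) :
    Subsingleton (H T ((Dual.inD A N)⟦(i : ℤ)⟧)) := subsingleton_of_forall_eq 0 fun z => by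
  obtain ⟨J, hJ, x, rfl⟩ := exists_rep T z
  let I := J ⊓ Module.annihilator A N
  have hI := zeroLocus_inf_subset T hJ hN
  haveI : Subsingleton (LocCoh.H I i N) := H4LC.subsingleton_H_of_isPowerTorsion I i N
    (fun m => ⟨1, fun a ha => Module.mem_annihilator.1 (inf_le_right (a := J) ((pow_one I).le ha)) m⟩) hi
  haveI : Subsingleton (LD.H I ((Dual.inD A N)⟦(i : ℤ)⟧)) := (LD.lcEquiv I N i).symm.injective.subsingleton
  have h1 : I ^ 1 ≤ J := (pow_one I).le.trans inf_le_left
  obtain ⟨m, hm, h0⟩ := LD.ι_eq_zero I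
    (Subsingleton.elim (LD.ι I ((Dual.inD A N)⟦(i : ℤ)⟧) 1 (qtr h1 ≫ x)) 0)
  have hIm : PrimeSpectrum.zeroLocus ((I ^ m : Ideal A) : Set A) ⊆ T := zeroLocus_pow_subset T hI m
  rw [← ι_qtr T _ hJ hIm ((Ideal.pow_le_pow_right hm).trans h1)]
  have hq : qtr ((Ideal.pow_le_pow_right hm).trans h1) ≫ x = LD.qtr I hm ≫ qtr h1 ≫ x := by
    rw [← Category.assoc]
    refine congrArg (· ≫ x) ?_
    show inM _ = inM _ ≫ inM _
    rw [inM, ← Functor.map_comp]
    exact congrArg _ (ModuleCat.hom_ext (Submodule.linearMap_qext _ (LinearMap.ext_ring rfl)))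
  rw [hq, h0, map_zero]

theorem finite_module_shift [IsNoetherianRing A] (N : Type u) [AddCommGroup N] [Module A N] [Module.Finite A N]
    (hN : PrimeSpectrum.zeroLocus (Module.annihilator A N : Set A) ⊆ T) (i : ℤ) :
    Module.Finite A (H T ((Dual.inD A N)⟦i⟧)) := by
  rcases lt_trichotomy i 0 with hi | rfl | hi
  · haveI := subsingleton_of_pos T (W := (Dual.inD A N)⟦i⟧) fun j hj =>
      haveI := PCoh.subsingleton_HD_inD (ModuleCat.of A N) _ (show i + j ≠ 0 by omega)
      (PCoh.hShift (Dual.inD A N) i j (i + j) rfl).injective.subsingleton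
    infer_instance
  · haveI := finite_module_zero T N hN
    exact Module.Finite.equiv (M := H T (Dual.inD A N))
      (hEquiv T ((shiftFunctorZero (Dual.D A) ℤ).app (Dual.inD A N)).symm)
  · obtain ⟨n, rfl⟩ := Int.eq_ofNat_of_zero_le hi.le
    haveI := subsingleton_module_pos T N hN n (by omega)
    infer_instance

/-- Finite cohomology supported in `T` gives finite `H T`. -/
theorem finite_of_supported [IsNoetherianRing A] {W : Dual.D A} {a : ℤ}
    (hlow : ∀ j : ℤ, j < a → Subsingleton (Dual.HD A W j)) (hfin : ∀ j : ℤ, Module.Finite A (Dual.HD A W j))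
    (hsupp : ∀ j : ℤ, PrimeSpectrum.zeroLocus (Module.annihilator A (Dual.HD A W j) : Set A) ⊆ T) :
    Module.Finite A (H T W) := by
  obtain ⟨Δ, hΔ, rfl, h1, h3, hb1, -⟩ := Ext.exists_trunc W 1
  refine finite_H₂ T Δ hΔ ?_ (haveI := subsingleton_of_pos T h3; inferInstance)
  refine Ext.ind_homology (fun K => Module.Finite A (H T K)) (fun K hK => ?_) (fun e h => ?_)
    (fun Δ' hΔ' x y => finite_H₂ T Δ' hΔ' x y) (1 - a).toNat (m := a) (fun j hj => ?_) (fun j => ?_)
  · haveI := subsingleton_of_pos T (W := K) fun j _ => hK j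
    infer_instance
  · haveI := h
    exact Module.Finite.equiv (hEquiv T e)
  · by_cases hj1 : 1 ≤ j
    · exact h1 j hj1
    · haveI := hlow j (by omega)
      exact (hb1 j (by omega)).1.subsingleton
  · by_cases hj1 : 1 ≤ j
    · haveI := h1 j hj1
      refine finite_module_shift T _ ?_ (-j)
      rw [Module.annihilator_eq_top_iff.2 ‹_›]
      exact zeroLocus_top_subset T
    · let e := LinearEquiv.ofBijective _ (hb1 j (by omega))
      haveI := hfin j
      haveI : Module.Finite A (Dual.HD A Δ.obj₁ j) := Module.Finite.equiv e.symm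
      refine finite_module_shift T _ ?_ (-j)
      rw [e.annihilator_eq]
      exact hsupp j

end Groth.Agent.H4DR.HT
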